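import Cfsg.Agent.Lib.Golay.LeechOrbit.Base

/-!
# The configurations and roots
-/

set_option autoImplicit false

namespace CfsgLib.Golay.LeechOrbit

open Cfsg CfsgLib.Golay

/-- Minus (4, 4, 0²²). -/
def negU : leechLattice := -Spor.leechU

/-- (1, 5, 1²²). -/
def vecWL : leechLattice := -(Spor.leechV + Spor.leechU')

/-- Root of `C552`. -/
def root552 : leechLattice := negU

/-- Root of `C11178`. -/
def root11178 : leechLattice := Spor.leechU'

/-- Root of `C4600`. -/
def root4600 : leechLattice := ofKey 21210039339756182043271661704 (by decide +kernel)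

/-- Root of `C275`. -/
def root275 : leechLattice := ofKey 22447979379041562318170785864 (by decide +kernel)

/-- Root of `C112`. -/
def root112 : leechLattice := ofKey 27069622192374246812692223895 (by decide +kernel)

/-- Root of `C162`. -/
def root162 : leechLattice := ofKey 21210039339756182043271661704 (by decide +kernel)

/-- Root of `C2025`. -/
def root2025 : leechLattice := Spor.leechU'

/-- Root of `C330`. -/
def root330 : leechLattice := ofKey 42255020007616689108775774888 (by decide +kernel)

/-- Root of `C462`. -/
def root462 : leechLattice := ofKey 51539570302248561866231548550 (by decide +kernel)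

/-- Root of `C1232`. -/
def root1232 : leechLattice := ofKey 46876672895321563189466478999 (by decide +kernel)

/-- Root of `C100`. -/
def root100 : leechLattice := negU

/-- Root of `C22`. -/
def root22 : leechLattice := ofKey 36973142506656690876987176887 (by decide +kernel)

/-- Root of `C77`. -/
def root77 : leechLattice := ofKey 31691426195670866615526262406 (by decide +kernel)

/-- Root of `C352`. -/
def root352 : leechLattice := ofKey 42255020007608211866070461098 (by decide +kernel)

/-- Root of `C1100`. -/
def root1100 : leechLattice := ofKey 51539570302248561866231548550 (by decide +kernel)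

/-- Root of `C4125`. -/
def root4125 : leechLattice := ofKey 42255020007616689108775774888 (by decide +kernel)

/-- Root of `C5600`. -/
def root5600 : leechLattice := ofKey 46876672895321563189466478999 (by decide +kernel)

/-- Constraints of `C552`. -/
def cs552 : List (leechLattice × ℤ) := [(Spor.leechV, 24)]

/-- Constraints of `C11178`. -/
def cs11178 : List (leechLattice × ℤ) := [(Spor.leechV, -16)]

/-- Constraints of `C4600`. -/
def cs4600 : List (leechLattice × ℤ) := [(Spor.leechU, -16)]

/-- Constraints of `C275`. -/
def cs275 : List (leechLattice × ℤ) := [(Spor.leechV, 24), (negU, 16)]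

/-- Constraints of `C112`. -/
def cs112 : List (leechLattice × ℤ) := [(Spor.leechV, 24), (negU, 16), (root275, 8)]

/-- Constraints of `C162`. -/
def cs162 : List (leechLattice × ℤ) := [(Spor.leechV, 24), (negU, 16), (root275, 16)]

/-- Constraints of `C2025`. -/
def cs2025 : List (leechLattice × ℤ) := [(Spor.leechV, -16), (Spor.leechU, 0)]

/-- Constraints of `C330`. -/
def cs330 : List (leechLattice × ℤ) := [(Spor.leechV, -16), (Spor.leechU, 0), (Spor.leechU', 0)]

/-- Constraints of `C462`. -/
def cs462 : List (leechLattice × ℤ) := [(Spor.leechV, -16), (Spor.leechU, 0), (Spor.leechU', 16)]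

/-- Constraints of `C1232`. -/
def cs1232 : List (leechLattice × ℤ) := [(Spor.leechV, -16), (Spor.leechU, 0), (Spor.leechU', 8)]

/-- Constraints of `C100`. -/
def cs100 : List (leechLattice × ℤ) := [(Spor.leechV, 24), (vecWL, -24)]

/-- Constraints of `C22`. -/
def cs22 : List (leechLattice × ℤ) := [(Spor.leechV, 24), (vecWL, -24), (negU, 8)]

/-- Constraints of `C77`. -/
def cs77 : List (leechLattice × ℤ) := [(Spor.leechV, 24), (vecWL, -24), (negU, 16)]

/-- Constraints of `C352`. -/
def cs352 : List (leechLattice × ℤ) := [(Spor.leechV, -16), (vecWL, 24)]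

/-- Constraints of `C1100`. -/
def cs1100 : List (leechLattice × ℤ) := [(Spor.leechV, -16), (Spor.leechU', 16)]

/-- Constraints of `C4125`. -/
def cs4125 : List (leechLattice × ℤ) := [(Spor.leechV, -16), (Spor.leechU', 0)]

/-- Constraints of `C5600`. -/
def cs5600 : List (leechLattice × ℤ) := [(Spor.leechV, -16), (Spor.leechU', 8)]

theorem consSet_mono {cs ds : List (leechLattice × ℤ)} (h : ∀ c ∈ ds, c ∈ cs) : consSet cs ⊆ consSet ds :=
  fun _ hx => ⟨hx.1, fun c hc => hx.2 c (h c hc)⟩

end CfsgLib.Golay.LeechOrbit
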