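import Cfsg.Agent.Lib.Golay.LeechOrbit.Search
import Cfsg.Agent.Lib.Golay.LeechOrbit.Configs
import Cfsg.Agent.Lib.Golay.LeechOrbit.DataCThree

/-!
# Search over the octad shape for the set of size 552, part 1.
-/

set_option autoImplicit false
set_option maxRecDepth 100000
set_option Elab.async false

namespace CfsgLib.Golay.LeechOrbit

open Cfsg CfsgLib.Golay CfsgLib.Sporadic

theorem searchB552_4 : allFrom 2048 512 (chkB (fun K => C552.has K.toNat) [-1, -1, -1, -1, -1, -1, -1, -1, -1, -1, -1, -1, -1, -1, -1, -1, -1, -1, -1, -1, -1, -1, -1, -5] (24)) = true := by decide +kernel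

theorem searchB552_5 : allFrom 2560 512 (chkB (fun K => C552.has K.toNat) [-1, -1, -1, -1, -1, -1, -1, -1, -1, -1, -1, -1, -1, -1, -1, -1, -1, -1, -1, -1, -1, -1, -1, -5] (24)) = true := by decide +kernel

theorem searchB552_6 : allFrom 3072 512 (chkB (fun K => C552.has K.toNat) [-1, -1, -1, -1, -1, -1, -1, -1, -1, -1, -1, -1, -1, -1, -1, -1, -1, -1, -1, -1, -1, -1, -1, -5] (24)) = true := by decide +kernel

theorem searchB552_7 : allFrom 3584 512 (chkB (fun K => C552.has K.toNat) [-1, -1, -1, -1, -1, -1, -1, -1, -1, -1, -1, -1, -1, -1, -1, -1, -1, -1, -1, -1, -1, -1, -1, -5] (24)) = true := by decide +kernel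

theorem searchB552_h1 : allFrom 2048 2048 (chkB (fun K => C552.has K.toNat) [-1, -1, -1, -1, -1, -1, -1, -1, -1, -1, -1, -1, -1, -1, -1, -1, -1, -1, -1, -1, -1, -1, -1, -5] (24)) = true :=
  allFrom_append (allFrom_append (allFrom_append searchB552_4 searchB552_5) searchB552_6) searchB552_7

end CfsgLib.Golay.LeechOrbit
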