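import Cfsg.Agent.Lib.Golay.LeechOrbit.Configs
import Cfsg.Agent.Lib.Golay.LeechOrbit.DataCThree
import Cfsg.Agent.Lib.Golay.LeechOrbit.CertAB
import Cfsg.Agent.Lib.Golay.LeechOrbit.CertAC

/-!
# The orbit of size 552: spanning tree and completeness.
-/

set_option autoImplicit false
set_option maxRecDepth 100000
set_option Elab.async false

namespace CfsgLib.Golay.LeechOrbit

open Cfsg CfsgLib.Golay CfsgLib.Sporadic

theorem steps552_0 : allFrom 0 552 (C552.step) = true := by decide +kernel

theorem steps552 : allFrom 0 552 (C552.step) = true := by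
  exact steps552_0

theorem valid552 : C552.Valid := ⟨cols_HV, steps552⟩

theorem cover552 : ∀ x ∈ consSet cs552, C552.has (keyOf (x : GolayPt → ℤ)) = true :=
  cover_of_search C552 Spor.leechV (24) [-1, -1, -1, -1, -1, -1, -1, -1, -1, -1, -1, -1, -1, -1, -1, -1, -1, -1, -1, -1, -1, -1, -1, -5] (by decide +kernel) searchA552 searchB552 searchC552

theorem spec552 : OrbitSpec cs552 root552 552 :=
  C552.orbitSpec valid552 cs552 root552 (by decide +kernel) (by decide +kernel) (by decide +kernel)
    (by decide +kernel) cover552

end CfsgLib.Golay.LeechOrbit
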