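import Cfsg.Agent.Lib.Golay.LeechOrbit.Vec

/-!
# Explicit automorphisms of the lattice as words in five letters

The letters are three coordinate permutations, one sign change and the involution which acts on
each tetrad of a sextet by `x ↦ x - (sum over the tetrad) / 2`, negated on one tetrad.
-/

set_option autoImplicit false

namespace CfsgLib.Golay.LeechOrbit

open Cfsg CfsgLib.Golay CfsgLib.MonsterType

/-! ### A spanning set and the membership test -/

/-- Membership test for the lattice. -/
def latB (x : GolayPt → ℤ) (m : ℤ) : Bool :=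
  ((List.finRange 24).all fun i => decide ((x (pt i) - m) % 2 = 0)) &&
    decide ((4 * m - ∑ i : Fin 24, x (pt i)) % 8 = 0) &&
    isCode (Nat.ofBits fun i : Fin 24 => decide (((x (pt i) - m) / 2) % 2 = 1))

theorem enc_twoWord (x : GolayPt → ℤ) (m : ℤ) :
    enc (twoWord x m) = Nat.ofBits fun i : Fin 24 => decide (((x (pt i) - m) / 2) % 2 = 1) := by
  unfold enc
  congr 1
  funext i
  simp only [twoWord]
  rw [show (1 : ZMod 2) = ((1 : ℤ) : ZMod 2) by norm_num]
  simp only [ZMod.intCast_eq_intCast_iff_dvd_sub, Nat.cast_ofNat]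
  exact decide_eq_decide.mpr (by omega)

theorem mem_of_latB {x : GolayPt → ℤ} (m : ℤ) (h : latB x m = true) : x ∈ leechLattice := by
  simp only [latB, Bool.and_eq_true, List.all_eq_true, List.mem_finRange, forall_true_left,
    decide_eq_true_eq] at h
  refine mem_leechLattice.mpr ⟨m, fun p => ?_, ?_, ?_⟩
  · have h1 := h.1.1 (idx p)
    rw [pt_idx] at h1
    rw [Int.modEq_iff_dvd]; omega
  · have h1 := h.1.2
    rw [sum_pt fun p => x p] at h1
    rw [Int.modEq_iff_dvd]; omega
  · rw [mem_golayCode, enc_twoWord]; exact h.2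

/-- Membership test, the parity read off the first coordinate. -/
def latA (x : GolayPt → ℤ) : Bool := latB x (x (pt 0) % 2)

theorem mem_of_latA {x : GolayPt → ℤ} (h : latA x = true) : x ∈ leechLattice := mem_of_latB _ h

/-- A vector with `-3` at the extra point and `1` elsewhere. -/
def spO : GolayPt → ℤ := fun p => if p = none then -3 else 1

theorem spO_inLeech : InLeech spO 1 := by
  refine ⟨fun p => ?_, ?_, ?_⟩
  · rw [Int.modEq_iff_dvd]; simp only [spO]; split_ifs <;> norm_num
  · decide +kernel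
  · rw [mem_golayCode]; decide +kernel

/-- Twice the word of a mask. -/
def twoMask (n : ℕ) : GolayPt → ℤ := fun p => if n.testBit (idx p).val then 2 else 0

theorem twoMask_inLeech : ∀ k < 12, InLeech (twoMask (gens.getD k 0)) 0 := by
  have hpar : ∀ n p, (twoMask n p) % 2 = 0 := fun n p => by
    simp only [twoMask]; split_ifs <;> rfl
  have h : ∀ k < 12, (∑ p, twoMask (gens.getD k 0) p) % 8 = 0 ∧
      isCode (enc (twoWord (twoMask (gens.getD k 0)) 0)) = true := by decide +kernel
  intro k hk
  refine ⟨fun p => ?_, ?_, mem_golayCode.mpr (h k hk).2⟩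
  · have := hpar (gens.getD k 0) p
    rw [Int.modEq_iff_dvd]; omega
  · have := (h k hk).1
    rw [Int.modEq_iff_dvd]; omega

theorem exists_two_combo {w : GolayPt → ZMod 2} (hw : w ∈ golayCode) :
    ∃ y : GolayPt → ℤ, InLeech y 0 ∧ twoWord y 0 = w ∧
      ∀ P : (GolayPt → ℤ) → Prop, P 0 → (∀ a b, P a → P b → P (a + b)) →
        (∀ k < 12, P (twoMask (gens.getD k 0))) → P y := by
  have htw : ∀ {a b : GolayPt → ℤ}, InLeech a 0 → InLeech b 0 →
      twoWord (a + b) 0 = twoWord a 0 + twoWord b 0 := by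
    intro a b ha hb
    funext i
    have h1 := (ha.1 i).symm.dvd
    have h2 := (hb.1 i).symm.dvd
    simp only [twoWord, Pi.add_apply, sub_zero, ← Int.cast_add]
    rw [Int.add_ediv_of_dvd_left (by omega)]
  have hk := isCode_iff.mp (mem_golayCode.mp hw)
  obtain ⟨y, hy1, hy2, hy3⟩ :
      ∃ y : GolayPt → ℤ, InLeech y 0 ∧ twoWord y 0 = dec (codeWord (enc w &&& 4095)) ∧
        ∀ P : (GolayPt → ℤ) → Prop, P 0 → (∀ a b, P a → P b → P (a + b)) →
          (∀ k < 12, P (twoMask (gens.getD k 0))) → P y := by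
    refine spanWord_induction (P := fun n => ∃ y : GolayPt → ℤ, InLeech y 0 ∧ twoWord y 0 = dec n ∧
        ∀ P : (GolayPt → ℤ) → Prop, P 0 → (∀ a b, P a → P b → P (a + b)) →
          (∀ k < 12, P (twoMask (gens.getD k 0))) → P y) gens ?_ ?_ ?_ _
    · exact ⟨0, InLeech.zero, by rw [dec_zero]; funext i; simp [twoWord], fun P h0 _ _ => h0⟩
    · rintro a b ⟨y, hy1, hy2, hy3⟩ ⟨z, hz1, hz2, hz3⟩
      refine ⟨y + z, ?_, ?_, fun P h0 ha hg => ha _ _ (hy3 P h0 ha hg) (hz3 P h0 ha hg)⟩
      · simpa using hy1.add hz1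
      · rw [htw hy1 hz1, hy2, hz2, dec_xor]
    · intro g hg
      obtain ⟨k, hk, rfl⟩ := List.mem_iff_getElem.mp hg
      rw [← List.getD_eq_getElem _ 0 hk]
      have hk' : k < 12 := by simpa [gens] using hk
      refine ⟨_, twoMask_inLeech k hk', ?_, fun P _ _ hg => hg k hk'⟩
      funext i
      simp only [twoWord, twoMask, dec]
      split_ifs <;> simp
  rw [hk, dec_enc] at hy2
  exact ⟨y, hy1, hy2, hy3⟩

/-- A property closed under sums and multiples holds on the lattice if it holds on a spanning set. -/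
theorem span_induction_lattice {P : (GolayPt → ℤ) → Prop} (h0 : P 0)
    (hadd : ∀ a b, P a → P b → P (a + b)) (hsmul : ∀ (n : ℤ) a, P a → P (n • a))
    (hO : P spO) (hG : ∀ k < 12, P (twoMask (gens.getD k 0)))
    (hF : ∀ p, P (Pi.single p 4 - Pi.single none 4)) (hE : P (Pi.single none 8))
    {x : GolayPt → ℤ} (hx : x ∈ leechLattice) : P x := by
  have hsum : ∀ (s : Finset GolayPt) (f : GolayPt → GolayPt → ℤ), (∀ p ∈ s, P (f p)) → P (∑ p ∈ s, f p) :=
    fun s f hf => Finset.sum_induction f P hadd h0 hf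
  have key : ∀ z : GolayPt → ℤ, InLeech z 0 → P z := by
    intro z hz
    obtain ⟨y, hy, hyw, hyP⟩ := exists_two_combo hz.2.2
    set d : GolayPt → ℤ := z - y with hd
    have h4 : ∀ i, (4 : ℤ) ∣ d i := fun i => by
      have h1 := congrFun hyw i
      simp only [twoWord, sub_zero, ZMod.intCast_eq_intCast_iff_dvd_sub] at h1
      have h2 := (hz.1 i).symm.dvd
      have h3 := (hy.1 i).symm.dvd
      simp only [hd, Pi.sub_apply]
      push_cast at h1
      omega
    have h8 : (8 : ℤ) ∣ ∑ i, d i := by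
      have h1 := hz.2.1.dvd
      have h2 := hy.2.1.dvd
      simp only [hd, Pi.sub_apply, Finset.sum_sub_distrib]
      omega
    have e : d = ∑ p, (d p / 4) • (Pi.single p 4 - Pi.single none 4 : GolayPt → ℤ) +
        ((∑ i, d i) / 8) • (Pi.single none 8 : GolayPt → ℤ) := by
      funext q
      have hq : ∑ p, (d p / 4) * (Pi.single p 4 : GolayPt → ℤ) q = d q := by
        rw [Finset.sum_eq_single q (fun p _ hp => by simp [Pi.single_eq_of_ne hp.symm]) (by simp),
          Pi.single_eq_same, Int.ediv_mul_cancel (h4 q)]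
      simp only [Pi.add_apply, Finset.sum_apply, Pi.smul_apply, Pi.sub_apply, smul_eq_mul, mul_sub,
        Finset.sum_sub_distrib, hq]
      rcases eq_or_ne q none with rfl | hne
      · simp only [Pi.single_eq_same]
        rw [Finset.sum_congr rfl fun p _ => Int.ediv_mul_cancel (h4 p)]
        show d none = d none - ∑ p, d p + (∑ p, d p) / 8 * 8
        omega
      · simp [Pi.single_eq_of_ne hne]
    have hPd : P d := by
      rw [e]
      exact hadd _ _ (hsum _ _ fun p _ => hsmul _ _ (hF p)) (hsmul _ _ hE)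
    have := hadd _ _ hPd (hyP P h0 hadd hG)
    rwa [hd, sub_add_cancel] at this
  rcases mem_leechLattice'.mp hx with h | h
  · exact key x h
  · have h1 := key (x + -spO) (by simpa using h.add spO_inLeech.neg)
    simpa using hadd _ _ h1 hO

/-! ### The tetrad involution -/

/-- The six tetrads of a sextet. -/
def tetrads : List (List ℕ) :=
  [[0, 1, 2, 3], [13, 18, 20, 21], [5, 14, 17, 23], [8, 15, 16, 19], [4, 7, 10, 12], [6, 9, 11, 22]]

/-- The tetrad of a position. -/
def tetOf (i : Fin 24) : List ℕ := (tetrads.find? fun T => T.contains i.val).getD []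

/-- The half sum over the tetrad of a position. -/
def halfSum (f : ℕ → ℤ) (i : Fin 24) : ℤ := ((tetOf i).map f).sum / 2

/-- The tetrad involution on coordinates. -/
def xiCoord (f : ℕ → ℤ) (i : Fin 24) : ℤ :=
  bif i.val < 4 then halfSum f i - f i.val else f i.val - halfSum f i

/-- The tetrad involution on lists. -/
def xiL (l : List ℤ) : List ℤ := List.ofFn (xiCoord fun i => l.getD i 0)

/-- The tetrad involution. -/
def xiF (x : GolayPt → ℤ) : GolayPt → ℤ := ofL (xiL (toL x))

theorem toL_xiF (x : GolayPt → ℤ) : toL (xiF x) = xiL (toL x) :=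
  toL_ofL List.length_ofFn

theorem xiF_apply (x : GolayPt → ℤ) (i : Fin 24) :
    xiF x (pt i) = xiCoord (fun k => (toL x).getD k 0) i := by
  show ofL (xiL (toL x)) (pt i) = _
  rw [ofL, idx_pt, xiL, List.getD_eq_getElem _ _ (by simp), List.getElem_ofFn]

/-- All coordinates congruent modulo two. -/
def EvenDiff (x : GolayPt → ℤ) : Prop := ∀ i j, (2 : ℤ) ∣ x i - x j

theorem evenDiff_of_mem {x : GolayPt → ℤ} (hx : x ∈ leechLattice) : EvenDiff x := fun i j => par hx i j

/-- The coordinate at a natural position. -/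
def co (x : GolayPt → ℤ) (k : ℕ) : ℤ := (toL x).getD k 0

theorem co_even {x : GolayPt → ℤ} (hx : EvenDiff x) {a b : ℕ} (ha : a < 24) (hb : b < 24) :
    (2 : ℤ) ∣ co x a - co x b := by
  simp only [co, getD_toL x ⟨a, ha⟩, getD_toL x ⟨b, hb⟩]
  exact hx _ _

theorem tet_cases : ∀ i : Fin 24, ∃ a b c d, tetOf i = [a, b, c, d] ∧ a < 24 ∧ b < 24 ∧ c < 24 ∧ d < 24 := by
  have h : ∀ i : Fin 24, (tetOf i).length = 4 ∧ (tetOf i).all (fun a => decide (a < 24)) = true := by
    decide +kernel
  intro i
  obtain ⟨h1, h2⟩ := h i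
  match hl : tetOf i, h1, h2 with
  | [a, b, c, d], _, h2 =>
    simp only [List.all_cons, List.all_nil, Bool.and_true, Bool.and_eq_true, decide_eq_true_eq] at h2
    exact ⟨a, b, c, d, rfl, h2.1, h2.2.1, h2.2.2.1, h2.2.2.2⟩

theorem xiF_add {x y : GolayPt → ℤ} (hx : EvenDiff x) (hy : EvenDiff y) :
    xiF (x + y) = xiF x + xiF y := by
  funext p
  obtain ⟨i, rfl⟩ : ∃ i, pt i = p := ⟨idx p, pt_idx p⟩
  have hco : ∀ k < 24, co (x + y) k = co x k + co y k := fun k hk => by
    simp only [co, getD_toL _ ⟨k, hk⟩, Pi.add_apply]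
  obtain ⟨a, b, c, d, he, ha, hb, hc, hd⟩ := tet_cases i
  simp only [Pi.add_apply, xiF_apply, xiCoord, halfSum, he, List.map, List.sum_cons, List.sum_nil]
  change (bif _ then _ - co (x + y) i.val else co (x + y) i.val - _) =
    (bif _ then _ - co x i.val else co x i.val - _) + (bif _ then _ - co y i.val else co y i.val - _)
  have e1 := co_even hx ha hb
  have e2 := co_even hx hc hd
  have e3 := co_even hy ha hb
  have e4 := co_even hy hc hd
  show (bif _ then ((co (x + y) a + (co (x + y) b + (co (x + y) c + (co (x + y) d + 0)))) / 2 - _) else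
      _ - (co (x + y) a + (co (x + y) b + (co (x + y) c + (co (x + y) d + 0)))) / 2) =
    (bif _ then ((co x a + (co x b + (co x c + (co x d + 0)))) / 2 - _) else
      _ - (co x a + (co x b + (co x c + (co x d + 0)))) / 2) +
    (bif _ then ((co y a + (co y b + (co y c + (co y d + 0)))) / 2 - _) else
      _ - (co y a + (co y b + (co y c + (co y d + 0)))) / 2)
  rw [hco a ha, hco b hb, hco c hc, hco d hd, hco i.val i.isLt]
  cases decide (i.val < 4) <;> simp only [cond_true, cond_false] <;> omega

theorem xiF_smul {x : GolayPt → ℤ} (hx : EvenDiff x) (n : ℤ) : xiF (n • x) = n • xiF x := by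
  funext p
  obtain ⟨i, rfl⟩ : ∃ i, pt i = p := ⟨idx p, pt_idx p⟩
  have hco : ∀ k < 24, co (n • x) k = n * co x k := fun k hk => by
    simp only [co, getD_toL _ ⟨k, hk⟩, Pi.smul_apply, smul_eq_mul]
  obtain ⟨a, b, c, d, he, ha, hb, hc, hd⟩ := tet_cases i
  simp only [Pi.smul_apply, smul_eq_mul, xiF_apply, xiCoord, halfSum, he, List.map, List.sum_cons,
    List.sum_nil]
  show (bif _ then ((co (n • x) a + (co (n • x) b + (co (n • x) c + (co (n • x) d + 0)))) / 2 -
      co (n • x) i.val) else
      co (n • x) i.val - (co (n • x) a + (co (n • x) b + (co (n • x) c + (co (n • x) d + 0)))) / 2) =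
    n * (bif _ then ((co x a + (co x b + (co x c + (co x d + 0)))) / 2 - co x i.val) else
      co x i.val - (co x a + (co x b + (co x c + (co x d + 0)))) / 2)
  obtain ⟨t, ht⟩ : (2 : ℤ) ∣ co x a + (co x b + (co x c + (co x d + 0))) := by
    have e1 := co_even hx ha hb
    have e2 := co_even hx hc hd
    omega
  rw [hco a ha, hco b hb, hco c hc, hco d hd, hco i.val i.isLt,
    show n * co x a + (n * co x b + (n * co x c + (n * co x d + 0))) =
      n * (co x a + (co x b + (co x c + (co x d + 0)))) by ring, ht,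
    show n * (2 * t) = 2 * (n * t) by ring, Int.mul_ediv_cancel_left _ two_ne_zero,
    Int.mul_ediv_cancel_left _ two_ne_zero]
  cases decide (i.val < 4) <;> simp only [cond_true, cond_false] <;> ring

theorem xiF_mem {x : GolayPt → ℤ} (hx : x ∈ leechLattice) : xiF x ∈ leechLattice := by
  suffices h : x ∈ leechLattice ∧ xiF x ∈ leechLattice ∧ xiF (xiF x) = x from h.2.1
  revert hx
  intro hx
  refine span_induction_lattice (P := fun z => z ∈ leechLattice ∧ xiF z ∈ leechLattice ∧ xiF (xiF z) = z)
    ?_ ?_ ?_ ?_ ?_ ?_ ?_ hx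
  · have h0 : xiF (0 : GolayPt → ℤ) = 0 := by decide +kernel
    exact ⟨zero_mem _, by rw [h0]; exact zero_mem _, by rw [h0, h0]⟩
  · rintro a b ⟨ha, ha', ha''⟩ ⟨hb, hb', hb''⟩
    refine ⟨add_mem ha hb, ?_, ?_⟩
    · rw [xiF_add (evenDiff_of_mem ha) (evenDiff_of_mem hb)]; exact add_mem ha' hb'
    · rw [xiF_add (evenDiff_of_mem ha) (evenDiff_of_mem hb),
        xiF_add (evenDiff_of_mem ha') (evenDiff_of_mem hb'), ha'', hb'']
  · rintro n a ⟨ha, ha', ha''⟩
    refine ⟨zsmul_mem ha n, ?_, ?_⟩
    · rw [xiF_smul (evenDiff_of_mem ha)]; exact zsmul_mem ha' n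
    · rw [xiF_smul (evenDiff_of_mem ha), xiF_smul (evenDiff_of_mem ha'), ha'']
  · refine ⟨mem_of_latB 1 (by decide +kernel), mem_of_latA (by decide +kernel), ?_⟩
    decide +kernel
  · have h : ∀ k < 12, latA (xiF (twoMask (gens.getD k 0))) = true ∧
        xiF (xiF (twoMask (gens.getD k 0))) = twoMask (gens.getD k 0) := by decide +kernel
    exact fun k hk => ⟨mem_leechLattice.mpr ⟨0, twoMask_inLeech k hk⟩, mem_of_latA (h k hk).1, (h k hk).2⟩
  · have h : ∀ p : GolayPt, latB (Pi.single p 4 - Pi.single none 4) 0 = true ∧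
        latA (xiF (Pi.single p 4 - Pi.single none 4)) = true ∧
        xiF (xiF (Pi.single p 4 - Pi.single none 4)) = Pi.single p 4 - Pi.single none 4 := by
      decide +kernel
    exact fun p => ⟨mem_of_latB 0 (h p).1, mem_of_latA (h p).2.1, (h p).2.2⟩
  · refine ⟨mem_of_latB 0 (by decide +kernel), mem_of_latA (by decide +kernel), ?_⟩
    decide +kernel

theorem xiF_xiF {x : GolayPt → ℤ} (hx : x ∈ leechLattice) : xiF (xiF x) = x := by
  refine (span_induction_lattice (P := fun z => z ∈ leechLattice ∧ xiF (xiF z) = z) ?_ ?_ ?_ ?_ ?_ ?_ ?_ hx).2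
  · exact ⟨zero_mem _, by decide +kernel⟩
  · rintro a b ⟨ha, ha'⟩ ⟨hb, hb'⟩
    exact ⟨add_mem ha hb, by rw [xiF_add (evenDiff_of_mem ha) (evenDiff_of_mem hb),
      xiF_add (evenDiff_of_mem (xiF_mem ha)) (evenDiff_of_mem (xiF_mem hb)), ha', hb']⟩
  · rintro n a ⟨ha, ha'⟩
    exact ⟨zsmul_mem ha n, by rw [xiF_smul (evenDiff_of_mem ha),
      xiF_smul (evenDiff_of_mem (xiF_mem ha)), ha']⟩
  · exact ⟨mem_of_latB 1 (by decide +kernel), by decide +kernel⟩
  · have h : ∀ k < 12, xiF (xiF (twoMask (gens.getD k 0))) = twoMask (gens.getD k 0) := by decide +kernel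
    exact fun k hk => ⟨mem_leechLattice.mpr ⟨0, twoMask_inLeech k hk⟩, h k hk⟩
  · have h : ∀ p : GolayPt, latB (Pi.single p 4 - Pi.single none 4) 0 = true ∧
        xiF (xiF (Pi.single p 4 - Pi.single none 4)) = Pi.single p 4 - Pi.single none 4 := by
      decide +kernel
    exact fun p => ⟨mem_of_latB 0 (h p).1, (h p).2⟩
  · exact ⟨mem_of_latB 0 (by decide +kernel), by decide +kernel⟩

theorem sq_quad (a b c d t : ℤ) (h : a + (b + (c + (d + 0))) = 2 * t) :
    (a - t) ^ 2 + ((b - t) ^ 2 + ((c - t) ^ 2 + (d - t) ^ 2)) = a ^ 2 + (b ^ 2 + (c ^ 2 + d ^ 2)) := by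
  linear_combination (-2 * t) * h

theorem sqNorm_xiF {x : GolayPt → ℤ} (hx : EvenDiff x) : sqNorm (xiF x) = sqNorm x := by
  have hperm : (tetrads.flatten.map fun k : ℕ => k).Perm (List.range 24) := by decide +kernel
  have h1 : ∀ f : ℕ → ℤ, ∑ i : Fin 24, f i.val = (tetrads.flatten.map f).sum := fun f => by
    rw [Fin.sum_univ_eq_sum_range f]
    show ((List.range 24).map f).sum = _
    rw [List.map_id' tetrads.flatten] at hperm
    exact (hperm.map f).sum_eq.symm
  have hco : ∀ y : GolayPt → ℤ, sqNorm y = (tetrads.flatten.map fun k => co y k ^ 2).sum := fun y => by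
    rw [← h1, sqNorm, ← sum_pt fun p => y p ^ 2]
    exact Finset.sum_congr rfl fun i _ => by rw [co, getD_toL]
  have key : ∀ T ∈ tetrads, (T.map fun k => co (xiF x) k ^ 2).sum = (T.map fun k => co x k ^ 2).sum := by
    intro T hT
    have hfacts : ∀ T ∈ tetrads, T.length = 4 ∧ ∀ k ∈ T, k < 24 ∧
        ((tetrads.find? fun S => S.contains k).getD []) = T := by decide +kernel
    obtain ⟨hlen, hk⟩ := hfacts T hT
    match T, hlen, hk with
    | [a, b, c, d], _, hk =>
      obtain ⟨ha, hta⟩ := hk a (by simp)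
      obtain ⟨hb, htb⟩ := hk b (by simp)
      obtain ⟨hc, htc⟩ := hk c (by simp)
      obtain ⟨hd, htd⟩ := hk d (by simp)
      obtain ⟨t, ht⟩ : (2 : ℤ) ∣ co x a + (co x b + (co x c + (co x d + 0))) := by
        have e1 := co_even hx ha hb
        have e2 := co_even hx hc hd
        omega
      have hv : ∀ k (hk24 : k < 24), ((tetrads.find? fun S => S.contains k).getD []) = [a, b, c, d] →
          co (xiF x) k ^ 2 = (co x k - t) ^ 2 := by
        intro k hk24 he
        rw [co, getD_toL _ ⟨k, hk24⟩, xiF_apply, xiCoord, halfSum, tetOf, he]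
        show (bif _ then ((co x a + (co x b + (co x c + (co x d + 0)))) / 2 - co x k) else
          co x k - (co x a + (co x b + (co x c + (co x d + 0)))) / 2) ^ 2 = _
        rw [ht, Int.mul_ediv_cancel_left _ two_ne_zero]
        cases decide (k < 4) <;> simp only [cond_true, cond_false] <;> ring
      simp only [List.map_cons, List.map_nil, List.sum_cons, List.sum_nil, add_zero, hv a ha hta,
        hv b hb htb, hv c hc htc, hv d hd htd]
      exact sq_quad _ _ _ _ _ ht
  rw [hco, hco, List.map_flatten, List.map_flatten, List.sum_flatten, List.sum_flatten, List.map_map,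
    List.map_map]
  exact congrArg List.sum (List.map_congr_left key)

/-- The tetrad involution as an automorphism. -/
def xiW : Co0 :=
  ⟨{ toFun := fun v => ⟨xiF v, xiF_mem v.2⟩
     invFun := fun v => ⟨xiF v, xiF_mem v.2⟩
     left_inv := fun v => Subtype.ext (xiF_xiF v.2)
     right_inv := fun v => Subtype.ext (xiF_xiF v.2) },
   fun v w => Subtype.ext (xiF_add (evenDiff_of_mem v.2) (evenDiff_of_mem w.2)),
   fun v => sqNorm_xiF (evenDiff_of_mem v.2)⟩

/-! ### Letters and words -/

/-- The letters. -/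
inductive Letter : Type
  | S | Si | T | C | Ci | E | X

/-- The group element of a letter. -/
noncomputable def letterW : Letter → Co0
  | .S => permW ⟨shiftPerm, shiftPerm_mem_M24⟩
  | .Si => (permW ⟨shiftPerm, shiftPerm_mem_M24⟩)⁻¹
  | .T => permW ⟨projInv, projInv_mem_M24⟩
  | .C => permW ⟨cubeTwist, cubeTwist_mem_M24⟩
  | .Ci => (permW ⟨cubeTwist, cubeTwist_mem_M24⟩)⁻¹
  | .E => sgnW ⟨dec 13062145, dec_mem_of_isCode (isCode_gens _ (by decide +kernel))⟩
  | .X => xiW

/-- Source positions. -/
def moveL (q : List ℕ) (l : List ℤ) : List ℤ := List.ofFn fun i : Fin 24 => l.getD (q.getD i.val 0) 0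

/-- Sign change on a mask. -/
def flipL (n : ℕ) (l : List ℤ) : List ℤ :=
  List.ofFn fun i : Fin 24 => bif n.testBit i.val then -l.getD i.val 0 else l.getD i.val 0

/-- The inverse of an image list. -/
def invP (l : List ℕ) : List ℕ := List.ofFn fun i : Fin 24 => l.idxOf i.val

/-- A letter on coordinate lists. -/
def appLetter : Letter → List ℤ → List ℤ
  | .S => moveL (invP permS)
  | .Si => moveL permS
  | .T => moveL (invP permT)
  | .C => moveL (invP permC)
  | .Ci => moveL permC
  | .E => flipL 13062145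
  | .X => xiL

theorem getD_toList (σ : Equiv.Perm GolayPt) (i : Fin 24) :
    (toList σ).getD i.val 0 = (idx (σ (pt i))).val := by
  rw [toList, List.getD_eq_getElem _ _ (by simp), List.getElem_ofFn]

theorem getD_invP (σ : Equiv.Perm GolayPt) (i : Fin 24) :
    (invP (toList σ)).getD i.val 0 = (idx (σ.symm (pt i))).val := by
  rw [invP, List.getD_eq_getElem _ _ (by simp), List.getElem_ofFn]
  set j := idx (σ.symm (pt i)) with hj
  have hval : (toList σ)[j.val]'(by rw [toList_length]; exact j.isLt) = i.val := by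
    rw [← List.getD_eq_getElem _ 0, getD_toList, hj, pt_idx, Equiv.apply_symm_apply, idx_pt]
  have hnd : (toList σ).Nodup := by
    rw [toList, List.nodup_ofFn]
    exact fun a b hab => ptEquiv.injective (σ.injective (idx_injective (Fin.ext hab)))
  show List.idxOf i.val (toList σ) = j.val
  rw [← hval]
  exact hnd.idxOf_getElem _ _

theorem toL_permW (σ : M24) {l : List ℕ} (hl : toList (σ : Equiv.Perm GolayPt) = l) (v : leechLattice) :
    toL ((permW σ • v : leechLattice) : GolayPt → ℤ) = moveL (invP l) (toL (v : GolayPt → ℤ)) := by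
  subst hl
  rw [toL, moveL]
  refine congrArg List.ofFn (funext fun i => ?_)
  rw [permW_apply, getD_invP, getD_toL, pt_idx]

theorem toL_permW_inv (σ : M24) {l : List ℕ} (hl : toList (σ : Equiv.Perm GolayPt) = l) (v : leechLattice) :
    toL (((permW σ)⁻¹ • v : leechLattice) : GolayPt → ℤ) = moveL l (toL (v : GolayPt → ℤ)) := by
  subst hl
  rw [← permHom_apply, ← map_inv, permHom_apply, toL, moveL]
  refine congrArg List.ofFn (funext fun i => ?_)
  rw [permW_apply, getD_toList, getD_toL, pt_idx]
  rfl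

theorem toL_letterW (a : Letter) (v : leechLattice) :
    toL ((letterW a • v : leechLattice) : GolayPt → ℤ) = appLetter a (toL (v : GolayPt → ℤ)) := by
  cases a
  · exact toL_permW _ toList_shiftPerm v
  · exact toL_permW_inv _ toList_shiftPerm v
  · exact toL_permW _ toList_projInv v
  · exact toL_permW _ toList_cubeTwist v
  · exact toL_permW_inv _ toList_cubeTwist v
  · show toL _ = flipL _ _
    rw [toL, flipL]
    refine congrArg List.ofFn (funext fun i => ?_)
    show ((sgnW _ • v : leechLattice) : GolayPt → ℤ) (pt i) = _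
    rw [sgnW_apply, getD_toL]
    simp only [dec, idx_pt]
    cases (13062145 : ℕ).testBit i.val <;> simp
  · exact toL_xiF _

/-- The element of a word. -/
noncomputable def wordW : List Letter → Co0
  | [] => 1
  | a :: w => letterW a * wordW w

/-- A word on coordinate lists. -/
def appW : List Letter → List ℤ → List ℤ
  | [], l => l
  | a :: w, l => appLetter a (appW w l)

theorem toL_wordW : ∀ (w : List Letter) (v : leechLattice),
    toL ((wordW w • v : leechLattice) : GolayPt → ℤ) = appW w (toL (v : GolayPt → ℤ))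
  | [], v => by rw [wordW, one_smul]; rfl
  | a :: w, v => by rw [wordW, mul_smul, toL_letterW, toL_wordW w v]; rfl

/-- Letter S on an explicit list. -/
def fastS : List ℤ → List ℤ
  | [x0, x1, x2, x3, x4, x5, x6, x7, x8, x9, x10, x11, x12, x13, x14, x15, x16, x17, x18, x19, x20, x21, x22, x23] =>
    [x22, x0, x1, x2, x3, x4, x5, x6, x7, x8, x9, x10, x11, x12, x13, x14, x15, x16, x17, x18, x19, x20, x21, x23]
  | l => appLetter .S l

theorem fastS_eq (l : List ℤ) : fastS l = appLetter .S l := by
  unfold fastS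
  split <;> rfl

/-- Letter Si on an explicit list. -/
def fastSi : List ℤ → List ℤ
  | [x0, x1, x2, x3, x4, x5, x6, x7, x8, x9, x10, x11, x12, x13, x14, x15, x16, x17, x18, x19, x20, x21, x22, x23] =>
    [x1, x2, x3, x4, x5, x6, x7, x8, x9, x10, x11, x12, x13, x14, x15, x16, x17, x18, x19, x20, x21, x22, x0, x23]
  | l => appLetter .Si l

theorem fastSi_eq (l : List ℤ) : fastSi l = appLetter .Si l := by
  unfold fastSi
  split <;> rfl

/-- Letter T on an explicit list. -/
def fastT : List ℤ → List ℤ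
  | [x0, x1, x2, x3, x4, x5, x6, x7, x8, x9, x10, x11, x12, x13, x14, x15, x16, x17, x18, x19, x20, x21, x22, x23] =>
    [x23, x22, x11, x15, x17, x9, x19, x13, x20, x5, x16, x2, x21, x7, x18, x3, x10, x4, x14, x6, x8, x12, x1, x0]
  | l => appLetter .T l

theorem fastT_eq (l : List ℤ) : fastT l = appLetter .T l := by
  unfold fastT
  split <;> rfl

/-- Letter C on an explicit list. -/
def fastC : List ℤ → List ℤ
  | [x0, x1, x2, x3, x4, x5, x6, x7, x8, x9, x10, x11, x12, x13, x14, x15, x16, x17, x18, x19, x20, x21, x22, x23] =>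
    [x0, x6, x4, x3, x18, x7, x2, x10, x12, x13, x20, x17, x9, x16, x22, x15, x8, x14, x1, x11, x21, x5, x19, x23]
  | l => appLetter .C l

theorem fastC_eq (l : List ℤ) : fastC l = appLetter .C l := by
  unfold fastC
  split <;> rfl

/-- Letter Ci on an explicit list. -/
def fastCi : List ℤ → List ℤ
  | [x0, x1, x2, x3, x4, x5, x6, x7, x8, x9, x10, x11, x12, x13, x14, x15, x16, x17, x18, x19, x20, x21, x22, x23] =>
    [x0, x18, x6, x3, x2, x21, x1, x5, x16, x12, x7, x19, x8, x9, x17, x15, x13, x11, x4, x22, x10, x20, x14, x23]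
  | l => appLetter .Ci l

theorem fastCi_eq (l : List ℤ) : fastCi l = appLetter .Ci l := by
  unfold fastCi
  split <;> rfl

/-- Letter E on an explicit list. -/
def fastE : List ℤ → List ℤ
  | [x0, x1, x2, x3, x4, x5, x6, x7, x8, x9, x10, x11, x12, x13, x14, x15, x16, x17, x18, x19, x20, x21, x22, x23] =>
    [-x0, x1, x2, x3, x4, x5, x6, x7, x8, x9, x10, x11, -x12, x13, -x14, x15, -x16, -x17, -x18, x19, x20, x21, -x22, -x23]
  | l => appLetter .E l

theorem fastE_eq (l : List ℤ) : fastE l = appLetter .E l := by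
  unfold fastE
  split <;> rfl

/-- Letter X on an explicit list. -/
def fastX : List ℤ → List ℤ
  | [x0, x1, x2, x3, x4, x5, x6, x7, x8, x9, x10, x11, x12, x13, x14, x15, x16, x17, x18, x19, x20, x21, x22, x23] =>
    [(x0 + (x1 + (x2 + (x3 + 0)))) / 2 - x0, (x0 + (x1 + (x2 + (x3 + 0)))) / 2 - x1, (x0 + (x1 + (x2 + (x3 + 0)))) / 2 - x2, (x0 + (x1 + (x2 + (x3 + 0)))) / 2 - x3, x4 - (x4 + (x7 + (x10 + (x12 + 0)))) / 2, x5 - (x5 + (x14 + (x17 + (x23 + 0)))) / 2, x6 - (x6 + (x9 + (x11 + (x22 + 0)))) / 2, x7 - (x4 + (x7 + (x10 + (x12 + 0)))) / 2, x8 - (x8 + (x15 + (x16 + (x19 + 0)))) / 2, x9 - (x6 + (x9 + (x11 + (x22 + 0)))) / 2, x10 - (x4 + (x7 + (x10 + (x12 + 0)))) / 2, x11 - (x6 + (x9 + (x11 + (x22 + 0)))) / 2, x12 - (x4 + (x7 + (x10 + (x12 + 0)))) / 2, x13 - (x13 + (x18 + (x20 + (x21 + 0)))) / 2, x14 - (x5 + (x14 + (x17 + (x23 + 0)))) / 2, x15 - (x8 + (x15 + (x16 + (x19 + 0)))) / 2, x16 - (x8 + (x15 + (x16 + (x19 + 0)))) / 2, x17 - (x5 + (x14 + (x17 + (x23 + 0)))) / 2, x18 - (x13 + (x18 + (x20 +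 (x21 + 0)))) / 2, x19 - (x8 + (x15 + (x16 + (x19 + 0)))) / 2, x20 - (x13 + (x18 + (x20 + (x21 + 0)))) / 2, x21 - (x13 + (x18 + (x20 + (x21 + 0)))) / 2, x22 - (x6 + (x9 + (x11 + (x22 + 0)))) / 2, x23 - (x5 + (x14 + (x17 + (x23 + 0)))) / 2]
  | l => appLetter .X l

theorem fastX_eq (l : List ℤ) : fastX l = appLetter .X l := by
  unfold fastX
  split <;> rfl

/-- A letter on coordinate lists, fast. -/
def appFast : Letter → List ℤ → List ℤ
  | .S => fastS
  | .Si => fastSi
  | .T => fastT
  | .C => fastC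
  | .Ci => fastCi
  | .E => fastE
  | .X => fastX

theorem appFast_eq (a : Letter) (l : List ℤ) : appFast a l = appLetter a l := by
  cases a
  · exact fastS_eq l
  · exact fastSi_eq l
  · exact fastT_eq l
  · exact fastC_eq l
  · exact fastCi_eq l
  · exact fastE_eq l
  · exact fastX_eq l

/-- Continue with a natural number once it has been evaluated. -/
def forceN {β : Type} (n : ℕ) (f : ℕ → β) : β :=
  match n with
  | 0 => f 0
  | m + 1 => f (m + 1)

/-- Continue with an integer once it has been evaluated. -/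
def forceZ {β : Type} (a : ℤ) (f : ℤ → β) : β :=
  match a with
  | Int.ofNat n => forceN n fun m => f (Int.ofNat m)
  | Int.negSucc n => forceN n fun m => f (Int.negSucc m)

/-- Centred digits of a key, evaluated. -/
def digitsF : ℕ → ℕ → List ℤ
  | 0, _ => []
  | n + 1, k => forceN k fun k => (((k &&& 15 : ℕ) : ℤ) - 8) :: digitsF n (k >>> 4)

/-- Continue with a list once its entries have been evaluated. -/
def forceL {β : Type} : List ℤ → (List ℤ → β) → β
  | [], f => f []
  | a :: l, f => forceZ a fun a' => forceL l fun l' => f (a' :: l')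

theorem forceN_eq {β : Type} (n : ℕ) (f : ℕ → β) : forceN n f = f n := by cases n <;> rfl

theorem forceZ_eq {β : Type} (a : ℤ) (f : ℤ → β) : forceZ a f = f a := by
  cases a <;> simp [forceZ, forceN_eq]

theorem digitsF_eq : ∀ n k : ℕ, digitsF n k = digits n k
  | 0, _ => rfl
  | n + 1, k => by rw [digitsF, forceN_eq, digits, digitsF_eq n]

theorem forceL_eq {β : Type} : ∀ (l : List ℤ) (f : List ℤ → β), forceL l f = f l
  | [], _ => rfl
  | a :: l, f => by rw [forceL, forceZ_eq, forceL_eq l]

/-- A reversed word on coordinate lists, one letter at a time. -/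
def appR : List Letter → List ℤ → List ℤ
  | [], l => l
  | a :: w, l => forceL (appFast a l) (appR w)

theorem appW_append : ∀ (w w' : List Letter) (l : List ℤ), appW (w ++ w') l = appW w (appW w' l)
  | [], _, _ => rfl
  | a :: w, w', l => by rw [List.cons_append, appW, appW, appW_append w]

theorem appR_eq : ∀ (w : List Letter) (l : List ℤ), appR w l = appW w.reverse l
  | [], _ => rfl
  | a :: w, l => by
    rw [appR, forceL_eq, appFast_eq, appR_eq w, List.reverse_cons, appW_append]
    rfl

/-- A word on coordinate lists, evaluated. -/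
def appE (w : List Letter) (l : List ℤ) : List ℤ := appR w.reverse l

theorem appE_eq (w : List Letter) (l : List ℤ) : appE w l = appW w l := by
  rw [appE, appR_eq, List.reverse_reverse]

/-- The coordinate list of `8 e` at a position. -/
def e8L (j : Fin 24) : List ℤ := List.ofFn fun i : Fin 24 => bif i.val == j.val then 8 else 0

/-- Packed images of the vectors `8 e`. -/
def colsW (w : List Letter) : List ℤ := List.ofFn fun j : Fin 24 => packL (appW w (e8L j))

/-- The packed columns, evaluated. -/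
def colsE (w : List Letter) : List ℤ := List.ofFn fun j : Fin 24 => packL (appE w (e8L j))

theorem colsE_eq : colsE = colsW := by funext w; simp only [colsE, colsW, appE_eq]

theorem toL_latE (j : Fin 24) : toL ((LeechEight.latE (pt j) : leechLattice) : GolayPt → ℤ) = e8L j := by
  rw [coe_latE, toL, e8L]
  refine congrArg List.ofFn (funext fun i => ?_)
  rcases eq_or_ne i j with rfl | h
  · simp
  · have hne : pt i ≠ pt j := fun e => h (ptEquiv.injective e)
    rw [Pi.single_eq_of_ne hne]
    have hv : (i.val == j.val) = false := by simpa using Fin.val_ne_of_ne h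
    rw [hv]; rfl

/-- The packed image of a vector is a combination of the packed columns. -/
theorem pack_wordW (w : List Letter) (v : leechLattice) :
    8 * pack ((wordW w • v : leechLattice) : GolayPt → ℤ) = dotL (toL (v : GolayPt → ℤ)) (colsW w) := by
  set γ := wordW w with hγ
  rw [pack_eq_sum, toL, colsW, dotL_ofFn, Finset.mul_sum]
  have h1 : ∀ p, 8 * (((γ • v : leechLattice) : GolayPt → ℤ) p * pw (idx p).val) =
      ∑ j, (v : GolayPt → ℤ) j * (((γ • LeechEight.latE j : leechLattice) : GolayPt → ℤ) p * pw (idx p).val) :=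
    fun p => by
      rw [← mul_assoc]
      show 8 * ((LeechEight.addHom γ v : leechLattice) : GolayPt → ℤ) p * pw (idx p).val = _
      rw [LeechEight.eight_addHom, Finset.sum_mul]
      exact Finset.sum_congr rfl fun j _ => mul_assoc _ _ _
  simp only [h1]
  rw [Finset.sum_comm, ← sum_pt fun j => ∑ p, _]
  refine Finset.sum_congr rfl fun j _ => ?_
  rw [← Finset.mul_sum, ← pack_eq_sum, pack, hγ, toL_wordW, toL_latE]

end CfsgLib.Golay.LeechOrbit
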