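import Cfsg.Agent.Lib.Golay.LeechOrbit.Cert

/-!
# Moving certified orbits along an automorphism; orthogonal pairs
-/

set_option autoImplicit false

namespace CfsgLib.Golay.LeechOrbit

open Cfsg CfsgLib.Golay CfsgLib.MonsterType CfsgLib.LeechEight CfsgLib.Sporadic

/-- Constraints moved by an automorphism. -/
def mapC (γ : Co0) (cs : List (leechLattice × ℤ)) : List (leechLattice × ℤ) :=
  cs.map fun c => (γ • c.1, c.2)

theorem smul_mem_mapC_iff {γ : Co0} {cs : List (leechLattice × ℤ)} {x : leechLattice} :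
    γ • x ∈ consSet (mapC γ cs) ↔ x ∈ consSet cs := by
  simp only [consSet, mapC, Set.mem_ofPred_eq, List.forall_mem_map, sqNorm_smul_lat, dot_smul_lat]

theorem consStab_mapC {γ δ : Co0} {cs : List (leechLattice × ℤ)} (h : δ ∈ consStab (mapC γ cs)) :
    γ⁻¹ * δ * γ ∈ consStab cs := by
  intro c hc
  have h1 := h (γ • c.1, c.2) (List.mem_map.mpr ⟨c, hc, rfl⟩)
  rw [mul_smul, mul_smul, inv_smul_eq_iff]
  exact h1

/-- A certified orbit moved to other constraints. -/
theorem OrbitSpec.transfer {cs ds : List (leechLattice × ℤ)} {r : leechLattice} {n : ℕ}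
    (h : OrbitSpec ds r n) (γ : Co0) (he : mapC γ cs = ds) : OrbitSpec cs (γ⁻¹ • r) n := by
  subst he
  refine ⟨smul_mem_mapC_iff.mp (by rw [smul_inv_smul]; exact h.root_mem), ?_, fun x hx => ?_⟩
  · rw [← h.ncard, ← Set.ncard_image_of_injective (consSet cs) (MulAction.injective γ)]
    congr 1
    ext x
    constructor
    · rintro ⟨y, hy, rfl⟩; exact smul_mem_mapC_iff.mpr hy
    · intro hx
      refine ⟨γ⁻¹ • x, (smul_mem_mapC_iff (γ := γ)).mp ?_, smul_inv_smul γ x⟩
      rw [smul_inv_smul]; exact hx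
  · obtain ⟨δ, hδ, e⟩ := h.trans _ (smul_mem_mapC_iff.mpr hx)
    exact ⟨γ⁻¹ * δ * γ, consStab_mapC hδ, by rw [mul_smul, mul_smul, smul_inv_smul, e, inv_smul_smul]⟩

/-- A property of all keys holds on the covered set. -/
theorem Cert.forall_of_all (C : Cert) {cs : List (leechLattice × ℤ)} {P : List ℤ → Bool}
    (hcover : ∀ x ∈ consSet cs, C.has (keyOf (x : GolayPt → ℤ)) = true)
    (h : allFrom 0 C.n (fun i => forceN (C.key i) fun k => P (digitsF 24 k)) = true) :
    ∀ x ∈ consSet cs, P (toL (x : GolayPt → ℤ)) = true := by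
  intro x hx
  obtain ⟨i, hi, e⟩ := C.has_sound (hcover x hx)
  have h1 := of_allFrom_zero h hi
  rwa [forceN_eq, digitsF_eq, e, ← toL_vecK, vecK_keyOf hx.1] at h1

/-- `Co0` is transitive on ordered orthogonal pairs of minimal vectors. -/
theorem exists_smul_orth_pair {v w : leechLattice} (hn : sqNorm (v : GolayPt → ℤ) = 32)
    (hwn : sqNorm (w : GolayPt → ℤ) = 32) (hd : dotInt (v : GolayPt → ℤ) (w : GolayPt → ℤ) = 0) :
    ∃ γ : Co0, γ • v = Spor.leechU ∧ γ • w = Spor.leechU' := by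
  have hp : sqNorm ((v + w : leechLattice) : GolayPt → ℤ) = 64 := by
    rw [AddSubgroup.coe_add, sqNorm_add_eq, hn, hwn, hd]; norm_num
  have hm : sqNorm ((v - w : leechLattice) : GolayPt → ℤ) = 64 := by
    rw [AddSubgroup.coe_sub, sqNorm_sub_eq, hn, hwn, hd]; norm_num
  obtain ⟨γ, hγ⟩ := exists_aut_cross hp
  obtain ⟨i, hi⟩ := hγ (v + w) hp (CongTwo.refl _)
  obtain ⟨j, hj⟩ := hγ (v - w) hm ⟨-(w : GolayPt → ℤ), neg_mem w.2, by
    simp only [AddSubgroup.coe_add, AddSubgroup.coe_sub]; module⟩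
  obtain ⟨s, hs, hsi⟩ : ∃ s : ℤ, (s = 1 ∨ s = -1) ∧ γ • (v + w) = s • latE i := by
    rcases hi with h | h
    exacts [⟨1, Or.inl rfl, by rw [h, one_zsmul]⟩, ⟨-1, Or.inr rfl, by rw [h, neg_one_zsmul]⟩]
  obtain ⟨t, ht, htj⟩ : ∃ t : ℤ, (t = 1 ∨ t = -1) ∧ γ • (v - w) = t • latE j := by
    rcases hj with h | h
    exacts [⟨1, Or.inl rfl, by rw [h, one_zsmul]⟩, ⟨-1, Or.inr rfl, by rw [h, neg_one_zsmul]⟩]
  have hij : i ≠ j := by
    intro e
    have h1 := dot_smul_lat γ (v + w) (v - w)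
    have h2 : dotInt ((v + w : leechLattice) : GolayPt → ℤ) ((v - w : leechLattice) : GolayPt → ℤ) = 0 := by
      rw [AddSubgroup.coe_add, AddSubgroup.coe_sub, dot_add_left, dot_sub_right, dot_sub_right, dot_self,
        dot_self, dot_symm (w : GolayPt → ℤ), hn, hwn, hd]
      norm_num
    rw [hsi, htj, ← e, h2, AddSubgroup.coe_zsmul, AddSubgroup.coe_zsmul, dot_smul_left, dot_smul_right,
      coe_latE, dot_single_right, Pi.single_eq_same] at h1
    rcases hs with rfl | rfl <;> rcases ht with rfl | rfl <;> norm_num at h1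
  obtain ⟨c, hc1, hc2⟩ := exists_sgn i j hij (decide (s = 1)) (decide (t = 1))
  obtain ⟨g, hg, hgL⟩ := exists_map_eq (L := [i, j]) (L' := [none, some 0]) (by simp [hij]) (by decide) rfl
    (by simp)
  simp only [List.map_cons, List.map_nil, List.cons.injEq, and_true] at hgL
  set δ : Co0 := permW ⟨g, hg⟩ * (sgnW c * γ) with hδ
  have h1 : δ • (v + w) = latE none := by
    rw [hδ, mul_smul, mul_smul, hsi]
    rcases hs with rfl | rfl
    · rw [one_zsmul, sgnW_latE, if_pos (hc1.mpr (by simp)), permW_latE, hgL.1]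
    · rw [neg_one_zsmul, smul_neg', sgnW_latE, if_neg (fun h => by simpa using hc1.mp h), neg_neg,
        permW_latE, hgL.1]
  have h2 : δ • (v - w) = latE (some 0) := by
    rw [hδ, mul_smul, mul_smul, htj]
    rcases ht with rfl | rfl
    · rw [one_zsmul, sgnW_latE, if_pos (hc2.mpr (by simp)), permW_latE, hgL.2]
    · rw [neg_one_zsmul, smul_neg', sgnW_latE, if_neg (fun h => by simpa using hc2.mp h), neg_neg,
        permW_latE, hgL.2]
  have h3 : δ • (v + v) = latE none + latE (some 0) := by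
    rw [show v + v = (v + w) + (v - w) by abel, smul_add', h1, h2]
  have h4 : δ • (w + w) = latE none + -latE (some 0) := by
    rw [show w + w = (v + w) + -(v - w) by abel, smul_add', smul_neg', h1, h2]
  rw [smul_add'] at h3 h4
  refine ⟨δ, Subtype.ext (funext fun k => ?_), Subtype.ext (funext fun k => ?_)⟩
  · have h5 := congrArg (fun z : leechLattice => (z : GolayPt → ℤ) k) h3
    simp only [AddSubgroup.coe_add, Pi.add_apply, latE_apply] at h5
    show ((δ • v : leechLattice) : GolayPt → ℤ) k = Spor.vecU k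
    unfold Spor.vecU
    split_ifs at h5 ⊢ <;> (try simp_all) <;> omega
  · have h5 := congrArg (fun z : leechLattice => (z : GolayPt → ℤ) k) h4
    simp only [AddSubgroup.coe_add, AddSubgroup.coe_neg, Pi.add_apply, Pi.neg_apply, latE_apply] at h5
    show ((δ • w : leechLattice) : GolayPt → ℤ) k = Spor.vecU' k
    unfold Spor.vecU'
    split_ifs at h5 ⊢ <;> (try simp_all) <;> omega

end CfsgLib.Golay.LeechOrbit
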