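import Cfsg.Agent.Lib.Golay.LeechOrbit.Search
import Cfsg.Agent.Lib.Golay.LeechOrbit.Configs
import Cfsg.Agent.Lib.Golay.LeechOrbit.DataCThree
import Cfsg.Agent.Lib.Golay.LeechOrbit.CertBB0
import Cfsg.Agent.Lib.Golay.LeechOrbit.CertBB1

/-!
# Search over the octad shape for the set of size 11178.
-/

set_option autoImplicit false
set_option maxRecDepth 100000
set_option Elab.async false

namespace CfsgLib.Golay.LeechOrbit

open Cfsg CfsgLib.Golay CfsgLib.Sporadic

theorem searchB11178 : allFrom 0 4096 (chkB (fun K => C11178.has K.toNat) [-1, -1, -1, -1, -1, -1, -1, -1, -1, -1, -1, -1, -1, -1, -1, -1, -1, -1, -1, -1, -1, -1, -1, -5] (-16)) = true :=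
  allFrom_append searchB11178_h0 searchB11178_h1

end CfsgLib.Golay.LeechOrbit
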