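import Cfsg.Agent.Lib.Golay.LeechOrbit.Search
import Cfsg.Agent.Lib.Golay.LeechOrbit.Configs
import Cfsg.Agent.Lib.Golay.LeechOrbit.DataCThree

/-!
# Search over the odd shape and the pairs for the set of size 11178.
-/

set_option autoImplicit false
set_option maxRecDepth 100000
set_option Elab.async false

namespace CfsgLib.Golay.LeechOrbit

open Cfsg CfsgLib.Golay CfsgLib.Sporadic

theorem searchA11178 : chkA (fun K => C11178.has K.toNat) [-1, -1, -1, -1, -1, -1, -1, -1, -1, -1, -1, -1, -1, -1, -1, -1, -1, -1, -1, -1, -1, -1, -1, -5] (-16) = true := by decide +kernel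

theorem searchC11178_0 : allFrom 0 512 (chkC (fun K => C11178.has K.toNat) [-1, -1, -1, -1, -1, -1, -1, -1, -1, -1, -1, -1, -1, -1, -1, -1, -1, -1, -1, -1, -1, -1, -1, -5] (-16)) = true := by decide +kernel

theorem searchC11178_1 : allFrom 512 512 (chkC (fun K => C11178.has K.toNat) [-1, -1, -1, -1, -1, -1, -1, -1, -1, -1, -1, -1, -1, -1, -1, -1, -1, -1, -1, -1, -1, -1, -1, -5] (-16)) = true := by decide +kernel

theorem searchC11178_2 : allFrom 1024 512 (chkC (fun K => C11178.has K.toNat) [-1, -1, -1, -1, -1, -1, -1, -1, -1, -1, -1, -1, -1, -1, -1, -1, -1, -1, -1, -1, -1, -1, -1, -5] (-16)) = true := by decide +kernel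

theorem searchC11178_3 : allFrom 1536 512 (chkC (fun K => C11178.has K.toNat) [-1, -1, -1, -1, -1, -1, -1, -1, -1, -1, -1, -1, -1, -1, -1, -1, -1, -1, -1, -1, -1, -1, -1, -5] (-16)) = true := by decide +kernel

theorem searchC11178_4 : allFrom 2048 512 (chkC (fun K => C11178.has K.toNat) [-1, -1, -1, -1, -1, -1, -1, -1, -1, -1, -1, -1, -1, -1, -1, -1, -1, -1, -1, -1, -1, -1, -1, -5] (-16)) = true := by decide +kernel

theorem searchC11178_5 : allFrom 2560 512 (chkC (fun K => C11178.has K.toNat) [-1, -1, -1, -1, -1, -1, -1, -1, -1, -1, -1, -1, -1, -1, -1, -1, -1, -1, -1, -1, -1, -1, -1, -5] (-16)) = true := by decide +kernel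

theorem searchC11178_6 : allFrom 3072 512 (chkC (fun K => C11178.has K.toNat) [-1, -1, -1, -1, -1, -1, -1, -1, -1, -1, -1, -1, -1, -1, -1, -1, -1, -1, -1, -1, -1, -1, -1, -5] (-16)) = true := by decide +kernel

theorem searchC11178_7 : allFrom 3584 512 (chkC (fun K => C11178.has K.toNat) [-1, -1, -1, -1, -1, -1, -1, -1, -1, -1, -1, -1, -1, -1, -1, -1, -1, -1, -1, -1, -1, -1, -1, -5] (-16)) = true := by decide +kernel

theorem searchC11178 : allFrom 0 4096 (chkC (fun K => C11178.has K.toNat) [-1, -1, -1, -1, -1, -1, -1, -1, -1, -1, -1, -1, -1, -1, -1, -1, -1, -1, -1, -1, -1, -1, -1, -5] (-16)) = true := by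
  exact (allFrom_append (allFrom_append (allFrom_append (allFrom_append (allFrom_append (allFrom_append (allFrom_append searchC11178_0 searchC11178_1) searchC11178_2) searchC11178_3) searchC11178_4) searchC11178_5) searchC11178_6) searchC11178_7)

end CfsgLib.Golay.LeechOrbit
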