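import Cfsg.Agent.Lib.Golay.LeechOrbit.Configs
import Cfsg.Agent.Lib.Golay.LeechOrbit.DataCThree
import Cfsg.Agent.Lib.Golay.LeechOrbit.CertBB
import Cfsg.Agent.Lib.Golay.LeechOrbit.CertBC

/-!
# The orbit of size 11178: spanning tree and completeness.
-/

set_option autoImplicit false
set_option maxRecDepth 100000
set_option Elab.async false

namespace CfsgLib.Golay.LeechOrbit

open Cfsg CfsgLib.Golay CfsgLib.Sporadic

theorem steps11178_0 : allFrom 0 700 (C11178.step) = true := by decide +kernel

theorem steps11178_1 : allFrom 700 700 (C11178.step) = true := by decide +kernel

theorem steps11178_2 : allFrom 1400 700 (C11178.step) = true := by decide +kernel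

theorem steps11178_3 : allFrom 2100 700 (C11178.step) = true := by decide +kernel

theorem steps11178_4 : allFrom 2800 700 (C11178.step) = true := by decide +kernel

theorem steps11178_5 : allFrom 3500 700 (C11178.step) = true := by decide +kernel

theorem steps11178_6 : allFrom 4200 700 (C11178.step) = true := by decide +kernel

theorem steps11178_7 : allFrom 4900 700 (C11178.step) = true := by decide +kernel

theorem steps11178_8 : allFrom 5600 700 (C11178.step) = true := by decide +kernel

theorem steps11178_9 : allFrom 6300 700 (C11178.step) = true := by decide +kernel

theorem steps11178_10 : allFrom 7000 700 (C11178.step) = true := by decide +kernel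

theorem steps11178_11 : allFrom 7700 700 (C11178.step) = true := by decide +kernel

theorem steps11178_12 : allFrom 8400 700 (C11178.step) = true := by decide +kernel

theorem steps11178_13 : allFrom 9100 700 (C11178.step) = true := by decide +kernel

theorem steps11178_14 : allFrom 9800 700 (C11178.step) = true := by decide +kernel

theorem steps11178_15 : allFrom 10500 678 (C11178.step) = true := by decide +kernel

theorem steps11178 : allFrom 0 11178 (C11178.step) = true := by
  exact (allFrom_append (allFrom_append (allFrom_append (allFrom_append (allFrom_append (allFrom_append (allFrom_append (allFrom_append (allFrom_append (allFrom_append (allFrom_append (allFrom_append (allFrom_append (allFrom_append (allFrom_append steps11178_0 steps11178_1) steps11178_2) steps11178_3) steps11178_4) steps11178_5) steps11178_6) steps11178_7) steps11178_8) steps11178_9) steps11178_10) steps11178_11) steps11178_12) steps11178_13) steps11178_14) steps11178_15)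

theorem valid11178 : C11178.Valid := ⟨cols_HV, steps11178⟩

theorem cover11178 : ∀ x ∈ consSet cs11178, C11178.has (keyOf (x : GolayPt → ℤ)) = true :=
  cover_of_search C11178 Spor.leechV (-16) [-1, -1, -1, -1, -1, -1, -1, -1, -1, -1, -1, -1, -1, -1, -1, -1, -1, -1, -1, -1, -1, -1, -1, -5] (by decide +kernel) searchA11178 searchB11178 searchC11178

theorem spec11178 : OrbitSpec cs11178 root11178 11178 :=
  C11178.orbitSpec valid11178 cs11178 root11178 (by decide +kernel) (by decide +kernel) (by decide +kernel)
    (by decide +kernel) cover11178

end CfsgLib.Golay.LeechOrbit
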