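import Cfsg.Agent.Lib.Golay.LeechOrbit.CertA
import Cfsg.Agent.Lib.Golay.LeechOrbit.CertB
import Cfsg.Agent.Lib.Golay.LeechOrbit.DataMcL

/-!
# Orbits inside larger ones.
-/

set_option autoImplicit false
set_option maxRecDepth 100000
set_option Elab.async false

namespace CfsgLib.Golay.LeechOrbit

open Cfsg CfsgLib.Golay CfsgLib.Sporadic

theorem steps275_0 : allFrom 0 275 (C275.step) = true := by decide +kernel

theorem steps275 : allFrom 0 275 (C275.step) = true := by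
  exact steps275_0

theorem valid275 : C275.Valid := ⟨cols_MCL, steps275⟩

theorem sub275_0 : allFrom 0 552 (fun i => forceN (C552.key i) fun k => !subB [([-1, -1, -1, -1, -1, -1, -1, -1, -1, -1, -1, -1, -1, -1, -1, -1, -1, -1, -1, -1, -1, -1, -1, -5], 24), ([-4, 0, 0, 0, 0, 0, 0, 0, 0, 0, 0, 0, 0, 0, 0, 0, 0, 0, 0, 0, 0, 0, 0, -4], 16)] (digitsF 24 k) || C275.has k) = true := by decide +kernel

theorem sub275 : allFrom 0 552 (fun i => forceN (C552.key i) fun k => !subB [([-1, -1, -1, -1, -1, -1, -1, -1, -1, -1, -1, -1, -1, -1, -1, -1, -1, -1, -1, -1, -1, -1, -1, -5], 24), ([-4, 0, 0, 0, 0, 0, 0, 0, 0, 0, 0, 0, 0, 0, 0, 0, 0, 0, 0, 0, 0, 0, 0, -4], 16)] (digitsF 24 k) || C275.has k) = true := by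
  exact sub275_0

theorem cover275 : ∀ x ∈ consSet cs275, C275.has (keyOf (x : GolayPt → ℤ)) = true :=
  Cert.cover_of_sub C275 C552 cover552 (consSet_mono (by simp [cs275, cs552])) [([-1, -1, -1, -1, -1, -1, -1, -1, -1, -1, -1, -1, -1, -1, -1, -1, -1, -1, -1, -1, -1, -1, -1, -5], 24), ([-4, 0, 0, 0, 0, 0, 0, 0, 0, 0, 0, 0, 0, 0, 0, 0, 0, 0, 0, 0, 0, 0, 0, -4], 16)] (by decide +kernel) sub275

theorem spec275 : OrbitSpec cs275 root275 275 :=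
  C275.orbitSpec valid275 cs275 root275 (by decide +kernel) (by decide +kernel) (by decide +kernel)
    (by decide +kernel) cover275

theorem steps112_0 : allFrom 0 112 (C112.step) = true := by decide +kernel

theorem steps112 : allFrom 0 112 (C112.step) = true := by
  exact steps112_0

theorem valid112 : C112.Valid := ⟨cols_MX, steps112⟩

theorem sub112_0 : allFrom 0 275 (fun i => forceN (C275.key i) fun k => !subB [([-1, -1, -1, -1, -1, -1, -1, -1, -1, -1, -1, -1, -1, -1, -1, -1, -1, -1, -1, -1, -1, -1, -1, -5], 24), ([-4, 0, 0, 0, 0, 0, 0, 0, 0, 0, 0, 0, 0, 0, 0, 0, 0, 0, 0, 0, 0, 0, 0, -4], 16), ([0, -4, 0, 0, 0, 0, 0, 0, 0, 0, 0, 0, 0, 0, 0, 0, 0, 0, 0, 0, 0, 0, 0, -4], 8)] (digitsF 24 k) || C112.has k) = true := by decide +kernel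

theorem sub112 : allFrom 0 275 (fun i => forceN (C275.key i) fun k => !subB [([-1, -1, -1, -1, -1, -1, -1, -1, -1, -1, -1, -1, -1, -1, -1, -1, -1, -1, -1, -1, -1, -1, -1, -5], 24), ([-4, 0, 0, 0, 0, 0, 0, 0, 0, 0, 0, 0, 0, 0, 0, 0, 0, 0, 0, 0, 0, 0, 0, -4], 16), ([0, -4, 0, 0, 0, 0, 0, 0, 0, 0, 0, 0, 0, 0, 0, 0, 0, 0, 0, 0, 0, 0, 0, -4], 8)] (digitsF 24 k) || C112.has k) = true := by
  exact sub112_0

theorem cover112 : ∀ x ∈ consSet cs112, C112.has (keyOf (x : GolayPt → ℤ)) = true :=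
  Cert.cover_of_sub C112 C275 cover275 (consSet_mono (by simp [cs112, cs275])) [([-1, -1, -1, -1, -1, -1, -1, -1, -1, -1, -1, -1, -1, -1, -1, -1, -1, -1, -1, -1, -1, -1, -1, -5], 24), ([-4, 0, 0, 0, 0, 0, 0, 0, 0, 0, 0, 0, 0, 0, 0, 0, 0, 0, 0, 0, 0, 0, 0, -4], 16), ([0, -4, 0, 0, 0, 0, 0, 0, 0, 0, 0, 0, 0, 0, 0, 0, 0, 0, 0, 0, 0, 0, 0, -4], 8)] (by decide +kernel) sub112

theorem spec112 : OrbitSpec cs112 root112 112 :=
  C112.orbitSpec valid112 cs112 root112 (by decide +kernel) (by decide +kernel) (by decide +kernel)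
    (by decide +kernel) cover112

theorem steps162_0 : allFrom 0 162 (C162.step) = true := by decide +kernel

theorem steps162 : allFrom 0 162 (C162.step) = true := by
  exact steps162_0

theorem valid162 : C162.Valid := ⟨cols_MX, steps162⟩

theorem sub162_0 : allFrom 0 275 (fun i => forceN (C275.key i) fun k => !subB [([-1, -1, -1, -1, -1, -1, -1, -1, -1, -1, -1, -1, -1, -1, -1, -1, -1, -1, -1, -1, -1, -1, -1, -5], 24), ([-4, 0, 0, 0, 0, 0, 0, 0, 0, 0, 0, 0, 0, 0, 0, 0, 0, 0, 0, 0, 0, 0, 0, -4], 16), ([0, -4, 0, 0, 0, 0, 0, 0, 0, 0, 0, 0, 0, 0, 0, 0, 0, 0, 0, 0, 0, 0, 0, -4], 16)] (digitsF 24 k) || C162.has k) = true := by decide +kernel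

theorem sub162 : allFrom 0 275 (fun i => forceN (C275.key i) fun k => !subB [([-1, -1, -1, -1, -1, -1, -1, -1, -1, -1, -1, -1, -1, -1, -1, -1, -1, -1, -1, -1, -1, -1, -1, -5], 24), ([-4, 0, 0, 0, 0, 0, 0, 0, 0, 0, 0, 0, 0, 0, 0, 0, 0, 0, 0, 0, 0, 0, 0, -4], 16), ([0, -4, 0, 0, 0, 0, 0, 0, 0, 0, 0, 0, 0, 0, 0, 0, 0, 0, 0, 0, 0, 0, 0, -4], 16)] (digitsF 24 k) || C162.has k) = true := by
  exact sub162_0

theorem cover162 : ∀ x ∈ consSet cs162, C162.has (keyOf (x : GolayPt → ℤ)) = true :=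
  Cert.cover_of_sub C162 C275 cover275 (consSet_mono (by simp [cs162, cs275])) [([-1, -1, -1, -1, -1, -1, -1, -1, -1, -1, -1, -1, -1, -1, -1, -1, -1, -1, -1, -1, -1, -1, -1, -5], 24), ([-4, 0, 0, 0, 0, 0, 0, 0, 0, 0, 0, 0, 0, 0, 0, 0, 0, 0, 0, 0, 0, 0, 0, -4], 16), ([0, -4, 0, 0, 0, 0, 0, 0, 0, 0, 0, 0, 0, 0, 0, 0, 0, 0, 0, 0, 0, 0, 0, -4], 16)] (by decide +kernel) sub162

theorem spec162 : OrbitSpec cs162 root162 162 :=
  C162.orbitSpec valid162 cs162 root162 (by decide +kernel) (by decide +kernel) (by decide +kernel)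
    (by decide +kernel) cover162

theorem steps2025_0 : allFrom 0 700 (C2025.step) = true := by decide +kernel

theorem steps2025_1 : allFrom 700 700 (C2025.step) = true := by decide +kernel

theorem steps2025_2 : allFrom 1400 625 (C2025.step) = true := by decide +kernel

theorem steps2025 : allFrom 0 2025 (C2025.step) = true := by
  exact (allFrom_append (allFrom_append steps2025_0 steps2025_1) steps2025_2)

theorem valid2025 : C2025.Valid := ⟨cols_MCL, steps2025⟩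

theorem sub2025_0 : allFrom 0 2000 (fun i => forceN (C11178.key i) fun k => !subB [([-1, -1, -1, -1, -1, -1, -1, -1, -1, -1, -1, -1, -1, -1, -1, -1, -1, -1, -1, -1, -1, -1, -1, -5], -16), ([4, 0, 0, 0, 0, 0, 0, 0, 0, 0, 0, 0, 0, 0, 0, 0, 0, 0, 0, 0, 0, 0, 0, 4], 0)] (digitsF 24 k) || C2025.has k) = true := by decide +kernel

theorem sub2025_1 : allFrom 2000 2000 (fun i => forceN (C11178.key i) fun k => !subB [([-1, -1, -1, -1, -1, -1, -1, -1, -1, -1, -1, -1, -1, -1, -1, -1, -1, -1, -1, -1, -1, -1, -1, -5], -16), ([4, 0, 0, 0, 0, 0, 0, 0, 0, 0, 0, 0, 0, 0, 0, 0, 0, 0, 0, 0, 0, 0, 0, 4], 0)] (digitsF 24 k) || C2025.has k) = true := by decide +kernel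

theorem sub2025_2 : allFrom 4000 2000 (fun i => forceN (C11178.key i) fun k => !subB [([-1, -1, -1, -1, -1, -1, -1, -1, -1, -1, -1, -1, -1, -1, -1, -1, -1, -1, -1, -1, -1, -1, -1, -5], -16), ([4, 0, 0, 0, 0, 0, 0, 0, 0, 0, 0, 0, 0, 0, 0, 0, 0, 0, 0, 0, 0, 0, 0, 4], 0)] (digitsF 24 k) || C2025.has k) = true := by decide +kernel

theorem sub2025_3 : allFrom 6000 2000 (fun i => forceN (C11178.key i) fun k => !subB [([-1, -1, -1, -1, -1, -1, -1, -1, -1, -1, -1, -1, -1, -1, -1, -1, -1, -1, -1, -1, -1, -1, -1, -5], -16), ([4, 0, 0, 0, 0, 0, 0, 0, 0, 0, 0, 0, 0, 0, 0, 0, 0, 0, 0, 0, 0, 0, 0, 4], 0)] (digitsF 24 k) || C2025.has k) = true := by decide +kernel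

theorem sub2025_4 : allFrom 8000 2000 (fun i => forceN (C11178.key i) fun k => !subB [([-1, -1, -1, -1, -1, -1, -1, -1, -1, -1, -1, -1, -1, -1, -1, -1, -1, -1, -1, -1, -1, -1, -1, -5], -16), ([4, 0, 0, 0, 0, 0, 0, 0, 0, 0, 0, 0, 0, 0, 0, 0, 0, 0, 0, 0, 0, 0, 0, 4], 0)] (digitsF 24 k) || C2025.has k) = true := by decide +kernel

theorem sub2025_5 : allFrom 10000 1178 (fun i => forceN (C11178.key i) fun k => !subB [([-1, -1, -1, -1, -1, -1, -1, -1, -1, -1, -1, -1, -1, -1, -1, -1, -1, -1, -1, -1, -1, -1, -1, -5], -16), ([4, 0, 0, 0, 0, 0, 0, 0, 0, 0, 0, 0, 0, 0, 0, 0, 0, 0, 0, 0, 0, 0, 0, 4], 0)] (digitsF 24 k) || C2025.has k) = true := by decide +kernel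

theorem sub2025 : allFrom 0 11178 (fun i => forceN (C11178.key i) fun k => !subB [([-1, -1, -1, -1, -1, -1, -1, -1, -1, -1, -1, -1, -1, -1, -1, -1, -1, -1, -1, -1, -1, -1, -1, -5], -16), ([4, 0, 0, 0, 0, 0, 0, 0, 0, 0, 0, 0, 0, 0, 0, 0, 0, 0, 0, 0, 0, 0, 0, 4], 0)] (digitsF 24 k) || C2025.has k) = true := by
  exact (allFrom_append (allFrom_append (allFrom_append (allFrom_append (allFrom_append sub2025_0 sub2025_1) sub2025_2) sub2025_3) sub2025_4) sub2025_5)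

theorem cover2025 : ∀ x ∈ consSet cs2025, C2025.has (keyOf (x : GolayPt → ℤ)) = true :=
  Cert.cover_of_sub C2025 C11178 cover11178 (consSet_mono (by simp [cs2025, cs11178])) [([-1, -1, -1, -1, -1, -1, -1, -1, -1, -1, -1, -1, -1, -1, -1, -1, -1, -1, -1, -1, -1, -1, -1, -5], -16), ([4, 0, 0, 0, 0, 0, 0, 0, 0, 0, 0, 0, 0, 0, 0, 0, 0, 0, 0, 0, 0, 0, 0, 4], 0)] (by decide +kernel) sub2025

theorem spec2025 : OrbitSpec cs2025 root2025 2025 :=
  C2025.orbitSpec valid2025 cs2025 root2025 (by decide +kernel) (by decide +kernel) (by decide +kernel)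
    (by decide +kernel) cover2025

theorem steps330_0 : allFrom 0 330 (C330.step) = true := by decide +kernel

theorem steps330 : allFrom 0 330 (C330.step) = true := by
  exact steps330_0

theorem valid330 : C330.Valid := ⟨cols_P2, steps330⟩

theorem sub330_0 : allFrom 0 2000 (fun i => forceN (C2025.key i) fun k => !subB [([-1, -1, -1, -1, -1, -1, -1, -1, -1, -1, -1, -1, -1, -1, -1, -1, -1, -1, -1, -1, -1, -1, -1, -5], -16), ([4, 0, 0, 0, 0, 0, 0, 0, 0, 0, 0, 0, 0, 0, 0, 0, 0, 0, 0, 0, 0, 0, 0, 4], 0), ([-4, 0, 0, 0, 0, 0, 0, 0, 0, 0, 0, 0, 0, 0, 0, 0, 0, 0, 0, 0, 0, 0, 0, 4], 0)] (digitsF 24 k) || C330.has k) = true := by decide +kernel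

theorem sub330_1 : allFrom 2000 25 (fun i => forceN (C2025.key i) fun k => !subB [([-1, -1, -1, -1, -1, -1, -1, -1, -1, -1, -1, -1, -1, -1, -1, -1, -1, -1, -1, -1, -1, -1, -1, -5], -16), ([4, 0, 0, 0, 0, 0, 0, 0, 0, 0, 0, 0, 0, 0, 0, 0, 0, 0, 0, 0, 0, 0, 0, 4], 0), ([-4, 0, 0, 0, 0, 0, 0, 0, 0, 0, 0, 0, 0, 0, 0, 0, 0, 0, 0, 0, 0, 0, 0, 4], 0)] (digitsF 24 k) || C330.has k) = true := by decide +kernel

theorem sub330 : allFrom 0 2025 (fun i => forceN (C2025.key i) fun k => !subB [([-1, -1, -1, -1, -1, -1, -1, -1, -1, -1, -1, -1, -1, -1, -1, -1, -1, -1, -1, -1, -1, -1, -1, -5], -16), ([4, 0, 0, 0, 0, 0, 0, 0, 0, 0, 0, 0, 0, 0, 0, 0, 0, 0, 0, 0, 0, 0, 0, 4], 0), ([-4, 0, 0, 0, 0, 0, 0, 0, 0, 0, 0, 0, 0, 0, 0, 0, 0, 0, 0, 0, 0, 0, 0, 4], 0)] (digitsF 24 k) || C330.has k) = true := by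
  exact (allFrom_append sub330_0 sub330_1)

theorem cover330 : ∀ x ∈ consSet cs330, C330.has (keyOf (x : GolayPt → ℤ)) = true :=
  Cert.cover_of_sub C330 C2025 cover2025 (consSet_mono (by simp [cs330, cs2025])) [([-1, -1, -1, -1, -1, -1, -1, -1, -1, -1, -1, -1, -1, -1, -1, -1, -1, -1, -1, -1, -1, -1, -1, -5], -16), ([4, 0, 0, 0, 0, 0, 0, 0, 0, 0, 0, 0, 0, 0, 0, 0, 0, 0, 0, 0, 0, 0, 0, 4], 0), ([-4, 0, 0, 0, 0, 0, 0, 0, 0, 0, 0, 0, 0, 0, 0, 0, 0, 0, 0, 0, 0, 0, 0, 4], 0)] (by decide +kernel) sub330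

theorem spec330 : OrbitSpec cs330 root330 330 :=
  C330.orbitSpec valid330 cs330 root330 (by decide +kernel) (by decide +kernel) (by decide +kernel)
    (by decide +kernel) cover330

theorem steps462_0 : allFrom 0 462 (C462.step) = true := by decide +kernel

theorem steps462 : allFrom 0 462 (C462.step) = true := by
  exact steps462_0

theorem valid462 : C462.Valid := ⟨cols_P2, steps462⟩

theorem sub462_0 : allFrom 0 2000 (fun i => forceN (C2025.key i) fun k => !subB [([-1, -1, -1, -1, -1, -1, -1, -1, -1, -1, -1, -1, -1, -1, -1, -1, -1, -1, -1, -1, -1, -1, -1, -5], -16), ([4, 0, 0, 0, 0, 0, 0, 0, 0, 0, 0, 0, 0, 0, 0, 0, 0, 0, 0, 0, 0, 0, 0, 4], 0), ([-4, 0, 0, 0, 0, 0, 0, 0, 0, 0, 0, 0, 0, 0, 0, 0, 0, 0, 0, 0, 0, 0, 0, 4], 16)] (digitsF 24 k) || C462.has k) = true := by decide +kernel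

theorem sub462_1 : allFrom 2000 25 (fun i => forceN (C2025.key i) fun k => !subB [([-1, -1, -1, -1, -1, -1, -1, -1, -1, -1, -1, -1, -1, -1, -1, -1, -1, -1, -1, -1, -1, -1, -1, -5], -16), ([4, 0, 0, 0, 0, 0, 0, 0, 0, 0, 0, 0, 0, 0, 0, 0, 0, 0, 0, 0, 0, 0, 0, 4], 0), ([-4, 0, 0, 0, 0, 0, 0, 0, 0, 0, 0, 0, 0, 0, 0, 0, 0, 0, 0, 0, 0, 0, 0, 4], 16)] (digitsF 24 k) || C462.has k) = true := by decide +kernel

theorem sub462 : allFrom 0 2025 (fun i => forceN (C2025.key i) fun k => !subB [([-1, -1, -1, -1, -1, -1, -1, -1, -1, -1, -1, -1, -1, -1, -1, -1, -1, -1, -1, -1, -1, -1, -1, -5], -16), ([4, 0, 0, 0, 0, 0, 0, 0, 0, 0, 0, 0, 0, 0, 0, 0, 0, 0, 0, 0, 0, 0, 0, 4], 0), ([-4, 0, 0, 0, 0, 0, 0, 0, 0, 0, 0, 0, 0, 0, 0, 0, 0, 0, 0, 0, 0, 0, 0, 4], 16)] (digitsF 24 k) || C462.has k) = true := by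
  exact (allFrom_append sub462_0 sub462_1)

theorem cover462 : ∀ x ∈ consSet cs462, C462.has (keyOf (x : GolayPt → ℤ)) = true :=
  Cert.cover_of_sub C462 C2025 cover2025 (consSet_mono (by simp [cs462, cs2025])) [([-1, -1, -1, -1, -1, -1, -1, -1, -1, -1, -1, -1, -1, -1, -1, -1, -1, -1, -1, -1, -1, -1, -1, -5], -16), ([4, 0, 0, 0, 0, 0, 0, 0, 0, 0, 0, 0, 0, 0, 0, 0, 0, 0, 0, 0, 0, 0, 0, 4], 0), ([-4, 0, 0, 0, 0, 0, 0, 0, 0, 0, 0, 0, 0, 0, 0, 0, 0, 0, 0, 0, 0, 0, 0, 4], 16)] (by decide +kernel) sub462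

theorem spec462 : OrbitSpec cs462 root462 462 :=
  C462.orbitSpec valid462 cs462 root462 (by decide +kernel) (by decide +kernel) (by decide +kernel)
    (by decide +kernel) cover462

theorem steps1232_0 : allFrom 0 700 (C1232.step) = true := by decide +kernel

theorem steps1232_1 : allFrom 700 532 (C1232.step) = true := by decide +kernel

theorem steps1232 : allFrom 0 1232 (C1232.step) = true := by
  exact (allFrom_append steps1232_0 steps1232_1)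

theorem valid1232 : C1232.Valid := ⟨cols_P2, steps1232⟩

theorem sub1232_0 : allFrom 0 2000 (fun i => forceN (C2025.key i) fun k => !subB [([-1, -1, -1, -1, -1, -1, -1, -1, -1, -1, -1, -1, -1, -1, -1, -1, -1, -1, -1, -1, -1, -1, -1, -5], -16), ([4, 0, 0, 0, 0, 0, 0, 0, 0, 0, 0, 0, 0, 0, 0, 0, 0, 0, 0, 0, 0, 0, 0, 4], 0), ([-4, 0, 0, 0, 0, 0, 0, 0, 0, 0, 0, 0, 0, 0, 0, 0, 0, 0, 0, 0, 0, 0, 0, 4], 8)] (digitsF 24 k) || C1232.has k) = true := by decide +kernel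

theorem sub1232_1 : allFrom 2000 25 (fun i => forceN (C2025.key i) fun k => !subB [([-1, -1, -1, -1, -1, -1, -1, -1, -1, -1, -1, -1, -1, -1, -1, -1, -1, -1, -1, -1, -1, -1, -1, -5], -16), ([4, 0, 0, 0, 0, 0, 0, 0, 0, 0, 0, 0, 0, 0, 0, 0, 0, 0, 0, 0, 0, 0, 0, 4], 0), ([-4, 0, 0, 0, 0, 0, 0, 0, 0, 0, 0, 0, 0, 0, 0, 0, 0, 0, 0, 0, 0, 0, 0, 4], 8)] (digitsF 24 k) || C1232.has k) = true := by decide +kernel

theorem sub1232 : allFrom 0 2025 (fun i => forceN (C2025.key i) fun k => !subB [([-1, -1, -1, -1, -1, -1, -1, -1, -1, -1, -1, -1, -1, -1, -1, -1, -1, -1, -1, -1, -1, -1, -1, -5], -16), ([4, 0, 0, 0, 0, 0, 0, 0, 0, 0, 0, 0, 0, 0, 0, 0, 0, 0, 0, 0, 0, 0, 0, 4], 0), ([-4, 0, 0, 0, 0, 0, 0, 0, 0, 0, 0, 0, 0, 0, 0, 0, 0, 0, 0, 0, 0, 0, 0, 4], 8)] (digitsF 24 k) || C1232.has k) = true := by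
  exact (allFrom_append sub1232_0 sub1232_1)

theorem cover1232 : ∀ x ∈ consSet cs1232, C1232.has (keyOf (x : GolayPt → ℤ)) = true :=
  Cert.cover_of_sub C1232 C2025 cover2025 (consSet_mono (by simp [cs1232, cs2025])) [([-1, -1, -1, -1, -1, -1, -1, -1, -1, -1, -1, -1, -1, -1, -1, -1, -1, -1, -1, -1, -1, -1, -1, -5], -16), ([4, 0, 0, 0, 0, 0, 0, 0, 0, 0, 0, 0, 0, 0, 0, 0, 0, 0, 0, 0, 0, 0, 0, 4], 0), ([-4, 0, 0, 0, 0, 0, 0, 0, 0, 0, 0, 0, 0, 0, 0, 0, 0, 0, 0, 0, 0, 0, 0, 4], 8)] (by decide +kernel) sub1232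

theorem spec1232 : OrbitSpec cs1232 root1232 1232 :=
  C1232.orbitSpec valid1232 cs1232 root1232 (by decide +kernel) (by decide +kernel) (by decide +kernel)
    (by decide +kernel) cover1232

end CfsgLib.Golay.LeechOrbit
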