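import Cfsg.Agent.Lib.Golay.LeechOrbit.Search
import Cfsg.Agent.Lib.Golay.LeechOrbit.DataGens

/-!
# The two long generator columns, six coordinates at a time
-/

set_option autoImplicit false
set_option maxRecDepth 100000
set_option Elab.async false

namespace CfsgLib.Golay.LeechOrbit

open Cfsg CfsgLib.Golay

/-- One column of a word. -/
def colAtHX (w : List Letter) (j : Fin 24) : ℤ := packL (appE w (e8L j))

theorem colsE_eq_colAt (w : List Letter) : colsE w =
    [colAtHX w 0, colAtHX w 1, colAtHX w 2, colAtHX w 3, colAtHX w 4, colAtHX w 5] ++ [colAtHX w 6, colAtHX w 7, colAtHX w 8, colAtHX w 9, colAtHX w 10, colAtHX w 11] ++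
    [colAtHX w 12, colAtHX w 13, colAtHX w 14, colAtHX w 15, colAtHX w 16, colAtHX w 17] ++ [colAtHX w 18, colAtHX w 19, colAtHX w 20, colAtHX w 21, colAtHX w 22, colAtHX w 23] := by
  simp only [colsE, List.ofFn_succ, List.ofFn_zero, colAtHX]
  rfl

theorem four_parts {α : Type*} (L : List α) (h : L.length = 24) :
    (L.drop 0).take 6 ++ (L.drop 6).take 6 ++ (L.drop 12).take 6 ++ (L.drop 18).take 6 = L := by
  rw [List.take_of_length_le (l := L.drop 18) (by rw [List.length_drop]; omega), List.drop_zero,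
    show L.drop 12 = (L.drop 6).drop 6 by rw [List.drop_drop],
    show L.drop 18 = ((L.drop 6).drop 6).drop 6 by rw [List.drop_drop, List.drop_drop],
    List.append_assoc, List.take_append_drop, List.append_assoc, List.take_append_drop, List.take_append_drop]

theorem cols_HX0_0 : ((colsHX.getD 0 []).drop 0).take 6 =
    [colAtHX (wsHX.getD 0 []) 0, colAtHX (wsHX.getD 0 []) 1, colAtHX (wsHX.getD 0 []) 2, colAtHX (wsHX.getD 0 []) 3, colAtHX (wsHX.getD 0 []) 4, colAtHX (wsHX.getD 0 []) 5] := by decide +kernel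

theorem cols_HX0_1 : ((colsHX.getD 0 []).drop 6).take 6 =
    [colAtHX (wsHX.getD 0 []) 6, colAtHX (wsHX.getD 0 []) 7, colAtHX (wsHX.getD 0 []) 8, colAtHX (wsHX.getD 0 []) 9, colAtHX (wsHX.getD 0 []) 10, colAtHX (wsHX.getD 0 []) 11] := by decide +kernel

theorem cols_HX0_2 : ((colsHX.getD 0 []).drop 12).take 6 =
    [colAtHX (wsHX.getD 0 []) 12, colAtHX (wsHX.getD 0 []) 13, colAtHX (wsHX.getD 0 []) 14, colAtHX (wsHX.getD 0 []) 15, colAtHX (wsHX.getD 0 []) 16, colAtHX (wsHX.getD 0 []) 17] := by decide +kernel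

theorem cols_HX0_3 : ((colsHX.getD 0 []).drop 18).take 6 =
    [colAtHX (wsHX.getD 0 []) 18, colAtHX (wsHX.getD 0 []) 19, colAtHX (wsHX.getD 0 []) 20, colAtHX (wsHX.getD 0 []) 21, colAtHX (wsHX.getD 0 []) 22, colAtHX (wsHX.getD 0 []) 23] := by decide +kernel

theorem len_HX0 : (colsHX.getD 0 []).length = 24 := by decide +kernel

theorem cols_HX0 : colsHX.getD 0 [] = colsE (wsHX.getD 0 []) := by
  rw [colsE_eq_colAt, ← cols_HX0_0, ← cols_HX0_1, ← cols_HX0_2, ← cols_HX0_3]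
  exact (four_parts _ len_HX0).symm

theorem cols_HX1_0 : ((colsHX.getD 1 []).drop 0).take 6 =
    [colAtHX (wsHX.getD 1 []) 0, colAtHX (wsHX.getD 1 []) 1, colAtHX (wsHX.getD 1 []) 2, colAtHX (wsHX.getD 1 []) 3, colAtHX (wsHX.getD 1 []) 4, colAtHX (wsHX.getD 1 []) 5] := by decide +kernel

theorem cols_HX1_1 : ((colsHX.getD 1 []).drop 6).take 6 =
    [colAtHX (wsHX.getD 1 []) 6, colAtHX (wsHX.getD 1 []) 7, colAtHX (wsHX.getD 1 []) 8, colAtHX (wsHX.getD 1 []) 9, colAtHX (wsHX.getD 1 []) 10, colAtHX (wsHX.getD 1 []) 11] := by decide +kernel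

theorem cols_HX1_2 : ((colsHX.getD 1 []).drop 12).take 6 =
    [colAtHX (wsHX.getD 1 []) 12, colAtHX (wsHX.getD 1 []) 13, colAtHX (wsHX.getD 1 []) 14, colAtHX (wsHX.getD 1 []) 15, colAtHX (wsHX.getD 1 []) 16, colAtHX (wsHX.getD 1 []) 17] := by decide +kernel

theorem cols_HX1_3 : ((colsHX.getD 1 []).drop 18).take 6 =
    [colAtHX (wsHX.getD 1 []) 18, colAtHX (wsHX.getD 1 []) 19, colAtHX (wsHX.getD 1 []) 20, colAtHX (wsHX.getD 1 []) 21, colAtHX (wsHX.getD 1 []) 22, colAtHX (wsHX.getD 1 []) 23] := by decide +kernel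

theorem len_HX1 : (colsHX.getD 1 []).length = 24 := by decide +kernel

theorem cols_HX1 : colsHX.getD 1 [] = colsE (wsHX.getD 1 []) := by
  rw [colsE_eq_colAt, ← cols_HX1_0, ← cols_HX1_1, ← cols_HX1_2, ← cols_HX1_3]
  exact (four_parts _ len_HX1).symm

end CfsgLib.Golay.LeechOrbit
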