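import Cfsg.Agent.Lib.Golay.LeechOrbit.Search
import Cfsg.Agent.Lib.Golay.LeechOrbit.DataGens
import Cfsg.Agent.Lib.Golay.LeechOrbit.BaseHX

/-!
# Base vectors and valid generator data
-/

set_option autoImplicit false
set_option maxRecDepth 100000
set_option Elab.async false

namespace CfsgLib.Golay.LeechOrbit

open Cfsg CfsgLib.Golay

/-- The vector of a key, as a lattice vector. -/
def ofKey (k : ℕ) (h : latA (vecK k) = true) : leechLattice := ⟨vecK k, mem_of_latA h⟩

theorem cols_HU0 : colsHU.getD 0 [] = colsE (wsHU.getD 0 []) := by decide +kernel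

theorem cols_HU1 : colsHU.getD 1 [] = colsE (wsHU.getD 1 []) := by decide +kernel

theorem cols_HU2 : colsHU.getD 2 [] = colsE (wsHU.getD 2 []) := by decide +kernel

theorem cols_HU3 : colsHU.getD 3 [] = colsE (wsHU.getD 3 []) := by decide +kernel

theorem cols_HU4 : colsHU.getD 4 [] = colsE (wsHU.getD 4 []) := by decide +kernel

theorem cols_HU5 : colsHU.getD 5 [] = colsE (wsHU.getD 5 []) := by decide +kernel

theorem cols_HU : colsHU = wsHU.map colsW := by
  rw [← colsE_eq]
  show [colsHU.getD 0 [], colsHU.getD 1 [], colsHU.getD 2 [], colsHU.getD 3 [], colsHU.getD 4 [], colsHU.getD 5 []] = [colsE (wsHU.getD 0 []), colsE (wsHU.getD 1 []), colsE (wsHU.getD 2 []), colsE (wsHU.getD 3 []), colsE (wsHU.getD 4 []), colsE (wsHU.getD 5 [])]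
  rw [cols_HU0, cols_HU1, cols_HU2, cols_HU3, cols_HU4, cols_HU5]

theorem cols_MCL0 : colsMCL.getD 0 [] = colsE (wsMCL.getD 0 []) := by decide +kernel

theorem cols_MCL1 : colsMCL.getD 1 [] = colsE (wsMCL.getD 1 []) := by decide +kernel

theorem cols_MCL2 : colsMCL.getD 2 [] = colsE (wsMCL.getD 2 []) := by decide +kernel

theorem cols_MCL : colsMCL = wsMCL.map colsW := by
  rw [← colsE_eq]
  show [colsMCL.getD 0 [], colsMCL.getD 1 [], colsMCL.getD 2 []] = [colsE (wsMCL.getD 0 []), colsE (wsMCL.getD 1 []), colsE (wsMCL.getD 2 [])]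
  rw [cols_MCL0, cols_MCL1, cols_MCL2]

theorem cols_HV0 : colsHV.getD 0 [] = colsE (wsHV.getD 0 []) := by decide +kernel

theorem cols_HV1 : colsHV.getD 1 [] = colsE (wsHV.getD 1 []) := by decide +kernel

theorem cols_HV : colsHV = wsHV.map colsW := by
  rw [← colsE_eq]
  show [colsHV.getD 0 [], colsHV.getD 1 []] = [colsE (wsHV.getD 0 []), colsE (wsHV.getD 1 [])]
  rw [cols_HV0, cols_HV1]

theorem cols_HS0 : colsHS.getD 0 [] = colsE (wsHS.getD 0 []) := by decide +kernel

theorem cols_HS1 : colsHS.getD 1 [] = colsE (wsHS.getD 1 []) := by decide +kernel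

theorem cols_HS : colsHS = wsHS.map colsW := by
  rw [← colsE_eq]
  show [colsHS.getD 0 [], colsHS.getD 1 []] = [colsE (wsHS.getD 0 []), colsE (wsHS.getD 1 [])]
  rw [cols_HS0, cols_HS1]

theorem cols_MX0 : colsMX.getD 0 [] = colsE (wsMX.getD 0 []) := by decide +kernel

theorem cols_MX1 : colsMX.getD 1 [] = colsE (wsMX.getD 1 []) := by decide +kernel

theorem cols_MX2 : colsMX.getD 2 [] = colsE (wsMX.getD 2 []) := by decide +kernel

theorem cols_MX : colsMX = wsMX.map colsW := by
  rw [← colsE_eq]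
  show [colsMX.getD 0 [], colsMX.getD 1 [], colsMX.getD 2 []] = [colsE (wsMX.getD 0 []), colsE (wsMX.getD 1 []), colsE (wsMX.getD 2 [])]
  rw [cols_MX0, cols_MX1, cols_MX2]

theorem cols_HX : colsHX = wsHX.map colsW := by
  rw [← colsE_eq]
  show [colsHX.getD 0 [], colsHX.getD 1 []] = [colsE (wsHX.getD 0 []), colsE (wsHX.getD 1 [])]
  rw [cols_HX0, cols_HX1]

theorem cols_P20 : colsP2.getD 0 [] = colsE (wsP2.getD 0 []) := by decide +kernel

theorem cols_P21 : colsP2.getD 1 [] = colsE (wsP2.getD 1 []) := by decide +kernel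

theorem cols_P2 : colsP2 = wsP2.map colsW := by
  rw [← colsE_eq]
  show [colsP2.getD 0 [], colsP2.getD 1 []] = [colsE (wsP2.getD 0 []), colsE (wsP2.getD 1 [])]
  rw [cols_P20, cols_P21]

end CfsgLib.Golay.LeechOrbit
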