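import Cfsg.Agent.Lib.Golay.LeechOrbit.Elem
import Cfsg.Agent.Lib.Sporadic.Chain

/-!
# Spanning-tree certificates for orbits on minimal vectors

A certificate lists the keys of the orbit in increasing order, each with a parent, a generator
and a rank.
-/

set_option autoImplicit false

namespace CfsgLib.Golay.LeechOrbit

open Cfsg CfsgLib.Golay CfsgLib.MonsterType CfsgLib.Sporadic

/-- The key of a vector. -/
def keyOf (x : GolayPt → ℤ) : ℕ := (pack x + off).toNat

theorem keyOf_spec {x : GolayPt → ℤ} (hn : sqNorm x = 32) : ((keyOf x : ℕ) : ℤ) = pack x + off := by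
  refine Int.toNat_of_nonneg ?_
  have h := packL_shift_nonneg (toL x) fun a ha => by
    rw [toL, List.mem_ofFn] at ha
    obtain ⟨i, rfl⟩ := ha
    exact bound_of_norm hn (by norm_num) _
  rwa [length_toL, ← off_eq] at h

theorem eq_of_keyOf {x y : GolayPt → ℤ} (hx : sqNorm x = 32) (hy : sqNorm y = 32)
    (h : keyOf x = keyOf y) : x = y := by
  rw [← vecK_of_pack (bound_of_norm hx (by norm_num)) (keyOf_spec hx).symm,
    ← vecK_of_pack (bound_of_norm hy (by norm_num)) (keyOf_spec hy).symm, h]

theorem vecK_keyOf {x : GolayPt → ℤ} (hx : sqNorm x = 32) : vecK (keyOf x) = x :=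
  vecK_of_pack (bound_of_norm hx (by norm_num)) (keyOf_spec hx).symm

/-- An orbit certificate. -/
structure Cert where
  n : ℕ
  root : ℕ
  ws : List (List Letter)
  cols : List (List ℤ)
  tab : Tr

/-- The key at an index. -/
noncomputable def Cert.key (C : Cert) (i : ℕ) : ℕ := C.tab.get i &&& 79228162514264337593543950335

/-- The parent at an index. -/
noncomputable def Cert.par (C : Cert) (i : ℕ) : ℕ := (C.tab.get i >>> 96) &&& 65535

/-- The generator at an index. -/
noncomputable def Cert.gen (C : Cert) (i : ℕ) : ℕ := (C.tab.get i >>> 112) &&& 255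

/-- The rank at an index. -/
noncomputable def Cert.rank (C : Cert) (i : ℕ) : ℕ := C.tab.get i >>> 120

/-- The test at an index. -/
noncomputable def Cert.step (C : Cert) (i : ℕ) : Bool :=
  forceN i fun i => forceN (C.key i) fun k => forceN (C.par i) fun p => forceN (C.key p) fun kp =>
    (bif C.rank i == 0 then k == C.root else
      Nat.blt p C.n && Nat.blt (C.rank p) (C.rank i) && Nat.blt (C.gen i) C.ws.length &&
        decide (dotL (digitsF 24 kp) (C.cols.getD (C.gen i) []) = 8 * ((k : ℤ) - off))) &&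
    (bif Nat.blt (i + 1) C.n then Nat.blt k (C.key (i + 1)) else true)

/-- Binary search. -/
noncomputable def Cert.find (C : Cert) (k : ℕ) : ℕ → ℕ → ℕ → Bool
  | 0, _, _ => false
  | f + 1, lo, hi => bif Nat.ble hi lo then false else
      forceN ((lo + hi) / 2) fun mid => forceN (C.key mid) fun v => bif v == k then true else
        bif Nat.blt v k then C.find k f (mid + 1) hi else C.find k f lo mid

/-- Membership of a key. -/
noncomputable def Cert.has (C : Cert) (k : ℕ) : Bool := forceN k fun k => C.find k 16 0 C.n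

theorem Cert.find_sound (C : Cert) (k : ℕ) : ∀ f lo hi, hi ≤ C.n → C.find k f lo hi = true →
    ∃ i < C.n, C.key i = k
  | 0, _, _, _, h => by simp [Cert.find] at h
  | f + 1, lo, hi, hn, h => by
    rw [Cert.find] at h
    cases hle : Nat.ble hi lo
    · rw [hle] at h
      simp only [cond_false, forceN_eq] at h
      have hlt : lo < hi := by
        by_contra hc
        rw [Nat.ble_eq.mpr (not_lt.mp hc)] at hle
        exact Bool.noConfusion hle
      by_cases he : C.key ((lo + hi) / 2) = k
      · exact ⟨_, by omega, he⟩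
      · rw [show (C.key ((lo + hi) / 2) == k) = false by simpa using he] at h
        simp only [cond_false] at h
        cases hb : Nat.blt (C.key ((lo + hi) / 2)) k <;> rw [hb] at h <;>
          simp only [cond_true, cond_false] at h
        · exact C.find_sound k f _ _ (by omega) h
        · exact C.find_sound k f _ _ (by omega) h
    · rw [hle] at h
      simp at h

theorem Cert.has_sound (C : Cert) {k : ℕ} (h : C.has k = true) : ∃ i < C.n, C.key i = k :=
  C.find_sound k _ _ _ le_rfl (by rwa [Cert.has, forceN_eq] at h)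

/-- The certificate is valid. -/
structure Cert.Valid (C : Cert) : Prop where
  cols_eq : C.cols = C.ws.map colsW
  steps : allFrom 0 C.n C.step = true

theorem Cert.key_strictMono (C : Cert) (hC : C.Valid) {i j : ℕ} (hij : i < j) (hj : j < C.n) :
    C.key i < C.key j := by
  induction j with
  | zero => omega
  | succ j ih =>
    have h := of_allFrom_zero hC.steps (i := j) (by omega)
    simp only [Cert.step, forceN_eq, digitsF_eq, Bool.and_eq_true] at h
    have h2 := h.2
    rw [show Nat.blt (j + 1) C.n = true by simpa [Nat.blt_eq] using hj] at h2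
    simp only [cond_true, Nat.blt_eq] at h2
    rcases Nat.lt_or_ge i j with hlt | hge
    · exact (ih hlt (by omega)).trans h2
    · obtain rfl : i = j := by omega
      exact h2

/-- Every key is that of an image of the root. -/
theorem Cert.reached (C : Cert) (hC : C.Valid) {H : Subgroup Co0} (hH : ∀ w ∈ C.ws, wordW w ∈ H)
    (r : leechLattice) (hr : sqNorm (r : GolayPt → ℤ) = 32) (hroot : keyOf (r : GolayPt → ℤ) = C.root) :
    ∀ i < C.n, ∃ γ ∈ H, keyOf ((γ • r : leechLattice) : GolayPt → ℤ) = C.key i := by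
  suffices h : ∀ k, ∀ i < C.n, C.rank i = k → ∃ γ ∈ H, keyOf ((γ • r : leechLattice) : GolayPt → ℤ) = C.key i
    from fun i hi => h _ i hi rfl
  intro k
  induction k using Nat.strong_induction_on with
  | _ k ih =>
    intro i hi hk
    have h := of_allFrom_zero hC.steps hi
    simp only [Cert.step, forceN_eq, digitsF_eq, Bool.and_eq_true] at h
    rcases Nat.eq_zero_or_pos (C.rank i) with h0 | hpos
    · have h1 := h.1
      rw [h0] at h1
      simp only [beq_self_eq_true, cond_true, beq_iff_eq] at h1
      exact ⟨1, one_mem H, by rw [one_smul, hroot, h1]⟩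
    · have h1 := h.1
      rw [show (C.rank i == 0) = false by simpa using Nat.pos_iff_ne_zero.mp hpos] at h1
      simp only [cond_false, Bool.and_eq_true, Nat.blt_eq, decide_eq_true_eq] at h1
      obtain ⟨⟨⟨hp, hrk⟩, hg⟩, hdot⟩ := h1
      obtain ⟨δ, hδ, hkey⟩ := ih _ (hk ▸ hrk) (C.par i) hp rfl
      set w := C.ws.getD (C.gen i) [] with hwdef
      have hw : w ∈ C.ws := by
        rw [hwdef, List.getD_eq_getElem _ _ hg]
        exact List.getElem_mem hg
      refine ⟨wordW w * δ, mul_mem (hH _ hw) hδ, ?_⟩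
      have hcol : C.cols.getD (C.gen i) [] = colsW w := by
        rw [hwdef, hC.cols_eq, List.getD_eq_getElem _ _ (by rw [List.length_map]; exact hg),
          List.getD_eq_getElem _ _ hg, List.getElem_map]
      have hn : sqNorm ((δ • r : leechLattice) : GolayPt → ℤ) = 32 := by rw [sqNorm_smul_lat, hr]
      rw [hcol, ← toL_vecK, ← hkey, vecK_keyOf hn, ← pack_wordW] at hdot
      have e : pack ((wordW w • δ • r : leechLattice) : GolayPt → ℤ) + off = (C.key i : ℤ) := by linarith
      rw [keyOf, mul_smul, e, Int.toNat_natCast]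

/-- The minimal vectors with given inner products. -/
def consSet (cs : List (leechLattice × ℤ)) : Set leechLattice :=
  {x | sqNorm (x : GolayPt → ℤ) = 32 ∧
    ∀ c ∈ cs, dotInt (c.1 : GolayPt → ℤ) (x : GolayPt → ℤ) = c.2}

/-- The joint stabiliser. -/
def consStab (cs : List (leechLattice × ℤ)) : Subgroup Co0 where
  carrier := {γ | ∀ c ∈ cs, γ • c.1 = c.1}
  one_mem' := fun c _ => one_smul _ _
  mul_mem' := fun {a b} ha hb c hc => by rw [mul_smul, hb c hc, ha c hc]
  inv_mem' := fun {a} ha c hc => inv_smul_eq_iff.mpr (ha c hc).symm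

theorem mem_consStab {cs : List (leechLattice × ℤ)} {γ : Co0} :
    γ ∈ consStab cs ↔ ∀ c ∈ cs, γ • c.1 = c.1 := Iff.rfl

theorem smul_mem_consSet {cs : List (leechLattice × ℤ)} {γ : Co0} (hγ : γ ∈ consStab cs)
    {x : leechLattice} (hx : x ∈ consSet cs) : γ • x ∈ consSet cs := by
  refine ⟨by rw [sqNorm_smul_lat]; exact hx.1, fun c hc => ?_⟩
  have h := dot_smul_lat γ c.1 x
  rw [hγ c hc] at h
  rw [h]; exact hx.2 c hc

/-- Test that words fix vectors. -/
def fixB (ws : List (List Letter)) (cs : List (List ℤ)) : Bool :=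
  ws.all fun w => cs.all fun c => appE w c == c

theorem mem_consStab_of_fixB {ws : List (List Letter)} {cs : List (leechLattice × ℤ)}
    (h : fixB ws (cs.map fun c => toL (c.1 : GolayPt → ℤ)) = true) :
    ∀ w ∈ ws, wordW w ∈ consStab cs := by
  intro w hw c hc
  simp only [fixB, List.all_eq_true, beq_iff_eq] at h
  apply Subtype.ext
  apply toL_injective
  rw [toL_wordW]
  rw [← appE_eq]
  exact h w hw _ (List.mem_map_of_mem hc)

/-- What an orbit certificate gives. -/
structure OrbitSpec (cs : List (leechLattice × ℤ)) (r : leechLattice) (n : ℕ) : Prop where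
  root_mem : r ∈ consSet cs
  ncard : (consSet cs).ncard = n
  trans : ∀ x ∈ consSet cs, ∃ γ ∈ consStab cs, γ • r = x

theorem OrbitSpec.exists_smul {cs : List (leechLattice × ℤ)} {r : leechLattice} {n : ℕ}
    (h : OrbitSpec cs r n) {x y : leechLattice} (hx : x ∈ consSet cs) (hy : y ∈ consSet cs) :
    ∃ γ ∈ consStab cs, γ • x = y := by
  obtain ⟨a, ha, rfl⟩ := h.trans x hx
  obtain ⟨b, hb, rfl⟩ := h.trans y hy
  exact ⟨b * a⁻¹, mul_mem hb (inv_mem ha), by rw [mul_smul, inv_smul_smul]⟩

theorem OrbitSpec.orbit_eq {cs : List (leechLattice × ℤ)} {r : leechLattice} {n : ℕ}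
    (h : OrbitSpec cs r n) {x : leechLattice} (hx : x ∈ consSet cs) :
    MulAction.orbit (consStab cs) x = consSet cs := by
  ext y
  constructor
  · rintro ⟨g, rfl⟩
    exact smul_mem_consSet g.2 hx
  · intro hy
    obtain ⟨γ, hγ, e⟩ := h.exists_smul hx hy
    exact ⟨⟨γ, hγ⟩, e⟩

/-- A checked certificate with a covering gives the count and transitivity. -/
theorem Cert.orbitSpec (C : Cert) (hC : C.Valid) (cs : List (leechLattice × ℤ)) (r : leechLattice)
    (hfix : fixB C.ws (cs.map fun c => toL (c.1 : GolayPt → ℤ)) = true)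
    (hn : dotL (toL (r : GolayPt → ℤ)) (toL (r : GolayPt → ℤ)) = 32)
    (hdots : (cs.all fun c => decide (dotL (toL (c.1 : GolayPt → ℤ)) (toL (r : GolayPt → ℤ)) = c.2)) = true)
    (hroot : keyOf (r : GolayPt → ℤ) = C.root)
    (hcover : ∀ x ∈ consSet cs, C.has (keyOf (x : GolayPt → ℤ)) = true) :
    OrbitSpec cs r C.n := by
  have hr : r ∈ consSet cs := by
    refine ⟨by rw [sqNorm_eq_dotL]; exact hn, fun c hc => ?_⟩
    simp only [List.all_eq_true, decide_eq_true_eq] at hdots
    rw [dotInt_eq_dotL]
    exact hdots c hc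
  have hH := mem_consStab_of_fixB hfix
  choose g hgH hg using fun i : Fin C.n => C.reached hC hH r hr.1 hroot i i.isLt
  have hmem : ∀ i, g i • r ∈ consSet cs := fun i => smul_mem_consSet (hgH i) hr
  have hsurj : ∀ x ∈ consSet cs, ∃ i, g i • r = x := by
    intro x hx
    obtain ⟨i, hi, e⟩ := C.has_sound (hcover x hx)
    exact ⟨⟨i, hi⟩, Subtype.ext (eq_of_keyOf (hmem ⟨i, hi⟩).1 hx.1 ((hg ⟨i, hi⟩).trans e))⟩
  refine ⟨hr, ?_, fun x hx => ?_⟩
  · have hset : consSet cs = Set.range fun i => g i • r := by
      ext x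
      exact ⟨fun hx => hsurj x hx, by rintro ⟨i, rfl⟩; exact hmem i⟩
    rw [hset, ← Set.image_univ, Set.ncard_image_of_injective, Set.ncard_univ, Nat.card_fin]
    intro i j hij
    have hk : C.key i.val = C.key j.val := by rw [← hg i, ← hg j]; exact congrArg (fun v : leechLattice => keyOf (v : GolayPt → ℤ)) hij
    rcases lt_trichotomy i.val j.val with h | h | h
    · exact absurd hk (Nat.ne_of_lt (C.key_strictMono hC h j.isLt))
    · exact Fin.ext h
    · exact absurd hk.symm (Nat.ne_of_lt (C.key_strictMono hC h i.isLt))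
  · obtain ⟨i, rfl⟩ := hsurj x hx
    exact ⟨_, hgH i, rfl⟩

/-- A covering inherited from a larger certified set. -/
def subB (cs : List (List ℤ × ℤ)) (l : List ℤ) : Bool :=
  cs.all fun c => decide (dotL c.1 l = c.2)

theorem Cert.cover_of_sub (C D : Cert) {cs ds : List (leechLattice × ℤ)}
    (hD : ∀ x ∈ consSet ds, D.has (keyOf (x : GolayPt → ℤ)) = true)
    (hsub : consSet cs ⊆ consSet ds) (L : List (List ℤ × ℤ))
    (hL : L = cs.map fun c => (toL (c.1 : GolayPt → ℤ), c.2))
    (hcheck : allFrom 0 D.n (fun i => forceN (D.key i) fun k =>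
      !subB L (digitsF 24 k) || C.has k) = true) :
    ∀ x ∈ consSet cs, C.has (keyOf (x : GolayPt → ℤ)) = true := by
  intro x hx
  obtain ⟨i, hi, e⟩ := D.has_sound (hD x (hsub hx))
  have h := of_allFrom_zero hcheck hi
  rw [hL, forceN_eq, digitsF_eq, e, ← toL_vecK, vecK_keyOf hx.1] at h
  have hs : subB (cs.map fun c => (toL (c.1 : GolayPt → ℤ), c.2)) (toL (x : GolayPt → ℤ)) = true := by
    simp only [subB, List.all_map, List.all_eq_true, Function.comp_apply, decide_eq_true_eq]
    intro c hc
    rw [← dotInt_eq_dotL]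
    exact hx.2 c hc
  rw [hs] at h
  simpa using h

end CfsgLib.Golay.LeechOrbit
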