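import Cfsg.Agent.Lib.Golay.LeechOrbit.Search
import Cfsg.Agent.Lib.Golay.LeechOrbit.Configs
import Cfsg.Agent.Lib.Golay.LeechOrbit.DataCTwo

/-!
# Search over the odd shape and the pairs for the set of size 4600.
-/

set_option autoImplicit false
set_option maxRecDepth 100000
set_option Elab.async false

namespace CfsgLib.Golay.LeechOrbit

open Cfsg CfsgLib.Golay CfsgLib.Sporadic

theorem searchA4600 : chkA (fun K => C4600.has K.toNat) [4, 0, 0, 0, 0, 0, 0, 0, 0, 0, 0, 0, 0, 0, 0, 0, 0, 0, 0, 0, 0, 0, 0, 4] (-16) = true := by decide +kernel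

theorem searchC4600_0 : allFrom 0 512 (chkC (fun K => C4600.has K.toNat) [4, 0, 0, 0, 0, 0, 0, 0, 0, 0, 0, 0, 0, 0, 0, 0, 0, 0, 0, 0, 0, 0, 0, 4] (-16)) = true := by decide +kernel

theorem searchC4600_1 : allFrom 512 512 (chkC (fun K => C4600.has K.toNat) [4, 0, 0, 0, 0, 0, 0, 0, 0, 0, 0, 0, 0, 0, 0, 0, 0, 0, 0, 0, 0, 0, 0, 4] (-16)) = true := by decide +kernel

theorem searchC4600_2 : allFrom 1024 512 (chkC (fun K => C4600.has K.toNat) [4, 0, 0, 0, 0, 0, 0, 0, 0, 0, 0, 0, 0, 0, 0, 0, 0, 0, 0, 0, 0, 0, 0, 4] (-16)) = true := by decide +kernel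

theorem searchC4600_3 : allFrom 1536 512 (chkC (fun K => C4600.has K.toNat) [4, 0, 0, 0, 0, 0, 0, 0, 0, 0, 0, 0, 0, 0, 0, 0, 0, 0, 0, 0, 0, 0, 0, 4] (-16)) = true := by decide +kernel

theorem searchC4600_4 : allFrom 2048 512 (chkC (fun K => C4600.has K.toNat) [4, 0, 0, 0, 0, 0, 0, 0, 0, 0, 0, 0, 0, 0, 0, 0, 0, 0, 0, 0, 0, 0, 0, 4] (-16)) = true := by decide +kernel

theorem searchC4600_5 : allFrom 2560 512 (chkC (fun K => C4600.has K.toNat) [4, 0, 0, 0, 0, 0, 0, 0, 0, 0, 0, 0, 0, 0, 0, 0, 0, 0, 0, 0, 0, 0, 0, 4] (-16)) = true := by decide +kernel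

theorem searchC4600_6 : allFrom 3072 512 (chkC (fun K => C4600.has K.toNat) [4, 0, 0, 0, 0, 0, 0, 0, 0, 0, 0, 0, 0, 0, 0, 0, 0, 0, 0, 0, 0, 0, 0, 4] (-16)) = true := by decide +kernel

theorem searchC4600_7 : allFrom 3584 512 (chkC (fun K => C4600.has K.toNat) [4, 0, 0, 0, 0, 0, 0, 0, 0, 0, 0, 0, 0, 0, 0, 0, 0, 0, 0, 0, 0, 0, 0, 4] (-16)) = true := by decide +kernel

theorem searchC4600 : allFrom 0 4096 (chkC (fun K => C4600.has K.toNat) [4, 0, 0, 0, 0, 0, 0, 0, 0, 0, 0, 0, 0, 0, 0, 0, 0, 0, 0, 0, 0, 0, 0, 4] (-16)) = true := by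
  exact (allFrom_append (allFrom_append (allFrom_append (allFrom_append (allFrom_append (allFrom_append (allFrom_append searchC4600_0 searchC4600_1) searchC4600_2) searchC4600_3) searchC4600_4) searchC4600_5) searchC4600_6) searchC4600_7)

end CfsgLib.Golay.LeechOrbit
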