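import Cfsg.Agent.Lib.Golay.LeechOrbit.Configs
import Cfsg.Agent.Lib.Golay.LeechOrbit.DataCTwo
import Cfsg.Agent.Lib.Golay.LeechOrbit.CertCB
import Cfsg.Agent.Lib.Golay.LeechOrbit.CertCC

/-!
# The orbit of size 4600: spanning tree and completeness.
-/

set_option autoImplicit false
set_option maxRecDepth 100000
set_option Elab.async false

namespace CfsgLib.Golay.LeechOrbit

open Cfsg CfsgLib.Golay CfsgLib.Sporadic

theorem steps4600_0 : allFrom 0 700 (C4600.step) = true := by decide +kernel

theorem steps4600_1 : allFrom 700 700 (C4600.step) = true := by decide +kernel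

theorem steps4600_2 : allFrom 1400 700 (C4600.step) = true := by decide +kernel

theorem steps4600_3 : allFrom 2100 700 (C4600.step) = true := by decide +kernel

theorem steps4600_4 : allFrom 2800 700 (C4600.step) = true := by decide +kernel

theorem steps4600_5 : allFrom 3500 700 (C4600.step) = true := by decide +kernel

theorem steps4600_6 : allFrom 4200 400 (C4600.step) = true := by decide +kernel

theorem steps4600 : allFrom 0 4600 (C4600.step) = true := by
  exact (allFrom_append (allFrom_append (allFrom_append (allFrom_append (allFrom_append (allFrom_append steps4600_0 steps4600_1) steps4600_2) steps4600_3) steps4600_4) steps4600_5) steps4600_6)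

theorem valid4600 : C4600.Valid := ⟨cols_HU, steps4600⟩

theorem cover4600 : ∀ x ∈ consSet cs4600, C4600.has (keyOf (x : GolayPt → ℤ)) = true :=
  cover_of_search C4600 Spor.leechU (-16) [4, 0, 0, 0, 0, 0, 0, 0, 0, 0, 0, 0, 0, 0, 0, 0, 0, 0, 0, 0, 0, 0, 0, 4] (by decide +kernel) searchA4600 searchB4600 searchC4600

theorem spec4600 : OrbitSpec cs4600 root4600 4600 :=
  C4600.orbitSpec valid4600 cs4600 root4600 (by decide +kernel) (by decide +kernel) (by decide +kernel)
    (by decide +kernel) cover4600

end CfsgLib.Golay.LeechOrbit
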