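import Cfsg.Agent.Lib.Golay.LeechOrbit.CertA
import Cfsg.Agent.Lib.Golay.LeechOrbit.CertB
import Cfsg.Agent.Lib.Golay.LeechOrbit.DataHS

/-!
# Orbits inside larger ones.
-/

set_option autoImplicit false
set_option maxRecDepth 100000
set_option Elab.async false

namespace CfsgLib.Golay.LeechOrbit

open Cfsg CfsgLib.Golay CfsgLib.Sporadic

theorem steps100_0 : allFrom 0 100 (C100.step) = true := by decide +kernel

theorem steps100 : allFrom 0 100 (C100.step) = true := by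
  exact steps100_0

theorem valid100 : C100.Valid := ⟨cols_HS, steps100⟩

theorem sub100_0 : allFrom 0 552 (fun i => forceN (C552.key i) fun k => !subB [([-1, -1, -1, -1, -1, -1, -1, -1, -1, -1, -1, -1, -1, -1, -1, -1, -1, -1, -1, -1, -1, -1, -1, -5], 24), ([5, 1, 1, 1, 1, 1, 1, 1, 1, 1, 1, 1, 1, 1, 1, 1, 1, 1, 1, 1, 1, 1, 1, 1], -24)] (digitsF 24 k) || C100.has k) = true := by decide +kernel

theorem sub100 : allFrom 0 552 (fun i => forceN (C552.key i) fun k => !subB [([-1, -1, -1, -1, -1, -1, -1, -1, -1, -1, -1, -1, -1, -1, -1, -1, -1, -1, -1, -1, -1, -1, -1, -5], 24), ([5, 1, 1, 1, 1, 1, 1, 1, 1, 1, 1, 1, 1, 1, 1, 1, 1, 1, 1, 1, 1, 1, 1, 1], -24)] (digitsF 24 k) || C100.has k) = true := by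
  exact sub100_0

theorem cover100 : ∀ x ∈ consSet cs100, C100.has (keyOf (x : GolayPt → ℤ)) = true :=
  Cert.cover_of_sub C100 C552 cover552 (consSet_mono (by simp [cs100, cs552])) [([-1, -1, -1, -1, -1, -1, -1, -1, -1, -1, -1, -1, -1, -1, -1, -1, -1, -1, -1, -1, -1, -1, -1, -5], 24), ([5, 1, 1, 1, 1, 1, 1, 1, 1, 1, 1, 1, 1, 1, 1, 1, 1, 1, 1, 1, 1, 1, 1, 1], -24)] (by decide +kernel) sub100

theorem spec100 : OrbitSpec cs100 root100 100 :=
  C100.orbitSpec valid100 cs100 root100 (by decide +kernel) (by decide +kernel) (by decide +kernel)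
    (by decide +kernel) cover100

theorem steps22_0 : allFrom 0 22 (C22.step) = true := by decide +kernel

theorem steps22 : allFrom 0 22 (C22.step) = true := by
  exact steps22_0

theorem valid22 : C22.Valid := ⟨cols_HX, steps22⟩

theorem sub22_0 : allFrom 0 100 (fun i => forceN (C100.key i) fun k => !subB [([-1, -1, -1, -1, -1, -1, -1, -1, -1, -1, -1, -1, -1, -1, -1, -1, -1, -1, -1, -1, -1, -1, -1, -5], 24), ([5, 1, 1, 1, 1, 1, 1, 1, 1, 1, 1, 1, 1, 1, 1, 1, 1, 1, 1, 1, 1, 1, 1, 1], -24), ([-4, 0, 0, 0, 0, 0, 0, 0, 0, 0, 0, 0, 0, 0, 0, 0, 0, 0, 0, 0, 0, 0, 0, -4], 8)] (digitsF 24 k) || C22.has k) = true := by decide +kernel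

theorem sub22 : allFrom 0 100 (fun i => forceN (C100.key i) fun k => !subB [([-1, -1, -1, -1, -1, -1, -1, -1, -1, -1, -1, -1, -1, -1, -1, -1, -1, -1, -1, -1, -1, -1, -1, -5], 24), ([5, 1, 1, 1, 1, 1, 1, 1, 1, 1, 1, 1, 1, 1, 1, 1, 1, 1, 1, 1, 1, 1, 1, 1], -24), ([-4, 0, 0, 0, 0, 0, 0, 0, 0, 0, 0, 0, 0, 0, 0, 0, 0, 0, 0, 0, 0, 0, 0, -4], 8)] (digitsF 24 k) || C22.has k) = true := by
  exact sub22_0

theorem cover22 : ∀ x ∈ consSet cs22, C22.has (keyOf (x : GolayPt → ℤ)) = true :=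
  Cert.cover_of_sub C22 C100 cover100 (consSet_mono (by simp [cs22, cs100])) [([-1, -1, -1, -1, -1, -1, -1, -1, -1, -1, -1, -1, -1, -1, -1, -1, -1, -1, -1, -1, -1, -1, -1, -5], 24), ([5, 1, 1, 1, 1, 1, 1, 1, 1, 1, 1, 1, 1, 1, 1, 1, 1, 1, 1, 1, 1, 1, 1, 1], -24), ([-4, 0, 0, 0, 0, 0, 0, 0, 0, 0, 0, 0, 0, 0, 0, 0, 0, 0, 0, 0, 0, 0, 0, -4], 8)] (by decide +kernel) sub22

theorem spec22 : OrbitSpec cs22 root22 22 :=
  C22.orbitSpec valid22 cs22 root22 (by decide +kernel) (by decide +kernel) (by decide +kernel)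
    (by decide +kernel) cover22

theorem steps77_0 : allFrom 0 77 (C77.step) = true := by decide +kernel

theorem steps77 : allFrom 0 77 (C77.step) = true := by
  exact steps77_0

theorem valid77 : C77.Valid := ⟨cols_HX, steps77⟩

theorem sub77_0 : allFrom 0 100 (fun i => forceN (C100.key i) fun k => !subB [([-1, -1, -1, -1, -1, -1, -1, -1, -1, -1, -1, -1, -1, -1, -1, -1, -1, -1, -1, -1, -1, -1, -1, -5], 24), ([5, 1, 1, 1, 1, 1, 1, 1, 1, 1, 1, 1, 1, 1, 1, 1, 1, 1, 1, 1, 1, 1, 1, 1], -24), ([-4, 0, 0, 0, 0, 0, 0, 0, 0, 0, 0, 0, 0, 0, 0, 0, 0, 0, 0, 0, 0, 0, 0, -4], 16)] (digitsF 24 k) || C77.has k) = true := by decide +kernel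

theorem sub77 : allFrom 0 100 (fun i => forceN (C100.key i) fun k => !subB [([-1, -1, -1, -1, -1, -1, -1, -1, -1, -1, -1, -1, -1, -1, -1, -1, -1, -1, -1, -1, -1, -1, -1, -5], 24), ([5, 1, 1, 1, 1, 1, 1, 1, 1, 1, 1, 1, 1, 1, 1, 1, 1, 1, 1, 1, 1, 1, 1, 1], -24), ([-4, 0, 0, 0, 0, 0, 0, 0, 0, 0, 0, 0, 0, 0, 0, 0, 0, 0, 0, 0, 0, 0, 0, -4], 16)] (digitsF 24 k) || C77.has k) = true := by
  exact sub77_0

theorem cover77 : ∀ x ∈ consSet cs77, C77.has (keyOf (x : GolayPt → ℤ)) = true :=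
  Cert.cover_of_sub C77 C100 cover100 (consSet_mono (by simp [cs77, cs100])) [([-1, -1, -1, -1, -1, -1, -1, -1, -1, -1, -1, -1, -1, -1, -1, -1, -1, -1, -1, -1, -1, -1, -1, -5], 24), ([5, 1, 1, 1, 1, 1, 1, 1, 1, 1, 1, 1, 1, 1, 1, 1, 1, 1, 1, 1, 1, 1, 1, 1], -24), ([-4, 0, 0, 0, 0, 0, 0, 0, 0, 0, 0, 0, 0, 0, 0, 0, 0, 0, 0, 0, 0, 0, 0, -4], 16)] (by decide +kernel) sub77

theorem spec77 : OrbitSpec cs77 root77 77 :=
  C77.orbitSpec valid77 cs77 root77 (by decide +kernel) (by decide +kernel) (by decide +kernel)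
    (by decide +kernel) cover77

theorem steps352_0 : allFrom 0 352 (C352.step) = true := by decide +kernel

theorem steps352 : allFrom 0 352 (C352.step) = true := by
  exact steps352_0

theorem valid352 : C352.Valid := ⟨cols_HS, steps352⟩

theorem sub352_0 : allFrom 0 2000 (fun i => forceN (C11178.key i) fun k => !subB [([-1, -1, -1, -1, -1, -1, -1, -1, -1, -1, -1, -1, -1, -1, -1, -1, -1, -1, -1, -1, -1, -1, -1, -5], -16), ([5, 1, 1, 1, 1, 1, 1, 1, 1, 1, 1, 1, 1, 1, 1, 1, 1, 1, 1, 1, 1, 1, 1, 1], 24)] (digitsF 24 k) || C352.has k) = true := by decide +kernel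

theorem sub352_1 : allFrom 2000 2000 (fun i => forceN (C11178.key i) fun k => !subB [([-1, -1, -1, -1, -1, -1, -1, -1, -1, -1, -1, -1, -1, -1, -1, -1, -1, -1, -1, -1, -1, -1, -1, -5], -16), ([5, 1, 1, 1, 1, 1, 1, 1, 1, 1, 1, 1, 1, 1, 1, 1, 1, 1, 1, 1, 1, 1, 1, 1], 24)] (digitsF 24 k) || C352.has k) = true := by decide +kernel

theorem sub352_2 : allFrom 4000 2000 (fun i => forceN (C11178.key i) fun k => !subB [([-1, -1, -1, -1, -1, -1, -1, -1, -1, -1, -1, -1, -1, -1, -1, -1, -1, -1, -1, -1, -1, -1, -1, -5], -16), ([5, 1, 1, 1, 1, 1, 1, 1, 1, 1, 1, 1, 1, 1, 1, 1, 1, 1, 1, 1, 1, 1, 1, 1], 24)] (digitsF 24 k) || C352.has k) = true := by decide +kernel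

theorem sub352_3 : allFrom 6000 2000 (fun i => forceN (C11178.key i) fun k => !subB [([-1, -1, -1, -1, -1, -1, -1, -1, -1, -1, -1, -1, -1, -1, -1, -1, -1, -1, -1, -1, -1, -1, -1, -5], -16), ([5, 1, 1, 1, 1, 1, 1, 1, 1, 1, 1, 1, 1, 1, 1, 1, 1, 1, 1, 1, 1, 1, 1, 1], 24)] (digitsF 24 k) || C352.has k) = true := by decide +kernel

theorem sub352_4 : allFrom 8000 2000 (fun i => forceN (C11178.key i) fun k => !subB [([-1, -1, -1, -1, -1, -1, -1, -1, -1, -1, -1, -1, -1, -1, -1, -1, -1, -1, -1, -1, -1, -1, -1, -5], -16), ([5, 1, 1, 1, 1, 1, 1, 1, 1, 1, 1, 1, 1, 1, 1, 1, 1, 1, 1, 1, 1, 1, 1, 1], 24)] (digitsF 24 k) || C352.has k) = true := by decide +kernel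

theorem sub352_5 : allFrom 10000 1178 (fun i => forceN (C11178.key i) fun k => !subB [([-1, -1, -1, -1, -1, -1, -1, -1, -1, -1, -1, -1, -1, -1, -1, -1, -1, -1, -1, -1, -1, -1, -1, -5], -16), ([5, 1, 1, 1, 1, 1, 1, 1, 1, 1, 1, 1, 1, 1, 1, 1, 1, 1, 1, 1, 1, 1, 1, 1], 24)] (digitsF 24 k) || C352.has k) = true := by decide +kernel

theorem sub352 : allFrom 0 11178 (fun i => forceN (C11178.key i) fun k => !subB [([-1, -1, -1, -1, -1, -1, -1, -1, -1, -1, -1, -1, -1, -1, -1, -1, -1, -1, -1, -1, -1, -1, -1, -5], -16), ([5, 1, 1, 1, 1, 1, 1, 1, 1, 1, 1, 1, 1, 1, 1, 1, 1, 1, 1, 1, 1, 1, 1, 1], 24)] (digitsF 24 k) || C352.has k) = true := by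
  exact (allFrom_append (allFrom_append (allFrom_append (allFrom_append (allFrom_append sub352_0 sub352_1) sub352_2) sub352_3) sub352_4) sub352_5)

theorem cover352 : ∀ x ∈ consSet cs352, C352.has (keyOf (x : GolayPt → ℤ)) = true :=
  Cert.cover_of_sub C352 C11178 cover11178 (consSet_mono (by simp [cs352, cs11178])) [([-1, -1, -1, -1, -1, -1, -1, -1, -1, -1, -1, -1, -1, -1, -1, -1, -1, -1, -1, -1, -1, -1, -1, -5], -16), ([5, 1, 1, 1, 1, 1, 1, 1, 1, 1, 1, 1, 1, 1, 1, 1, 1, 1, 1, 1, 1, 1, 1, 1], 24)] (by decide +kernel) sub352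

theorem spec352 : OrbitSpec cs352 root352 352 :=
  C352.orbitSpec valid352 cs352 root352 (by decide +kernel) (by decide +kernel) (by decide +kernel)
    (by decide +kernel) cover352

end CfsgLib.Golay.LeechOrbit
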