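import Cfsg.Agent.Lib.Golay.LeechOrbit.CertB
import Cfsg.Agent.Lib.Golay.LeechOrbit.DataHS
import Cfsg.Agent.Lib.Golay.LeechOrbit.CertHSCoB1
import Cfsg.Agent.Lib.Golay.LeechOrbit.CertHSCoB2

/-!
# Orbits inside larger ones.
-/

set_option autoImplicit false
set_option maxRecDepth 100000
set_option Elab.async false

namespace CfsgLib.Golay.LeechOrbit

open Cfsg CfsgLib.Golay CfsgLib.Sporadic

theorem steps4125 : allFrom 0 4125 (C4125.step) = true := by
  exact (allFrom_append (allFrom_append (allFrom_append (allFrom_append (allFrom_append steps4125_0 steps4125_1) steps4125_2) steps4125_3) steps4125_4) steps4125_5)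

theorem valid4125 : C4125.Valid := ⟨cols_HS, steps4125⟩

end CfsgLib.Golay.LeechOrbit
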