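import Cfsg.Agent.Lib.Golay.LeechOrbit.CertB
import Cfsg.Agent.Lib.Golay.LeechOrbit.DataHS
import Cfsg.Agent.Lib.Golay.LeechOrbit.CertHSCoB
import Cfsg.Agent.Lib.Golay.LeechOrbit.CertHSCoC1
import Cfsg.Agent.Lib.Golay.LeechOrbit.CertHSCoC2

/-!
# Orbits inside larger ones.
-/

set_option autoImplicit false
set_option maxRecDepth 100000
set_option Elab.async false

namespace CfsgLib.Golay.LeechOrbit

open Cfsg CfsgLib.Golay CfsgLib.Sporadic

theorem sub4125 : allFrom 0 11178 (fun i => forceN (C11178.key i) fun k => !subB [([-1, -1, -1, -1, -1, -1, -1, -1, -1, -1, -1, -1, -1, -1, -1, -1, -1, -1, -1, -1, -1, -1, -1, -5], -16), ([-4, 0, 0, 0, 0, 0, 0, 0, 0, 0, 0, 0, 0, 0, 0, 0, 0, 0, 0, 0, 0, 0, 0, 4], 0)] (digitsF 24 k) || C4125.has k) = true := by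
  exact (allFrom_append (allFrom_append (allFrom_append (allFrom_append (allFrom_append sub4125_0 sub4125_1) sub4125_2) sub4125_3) sub4125_4) sub4125_5)

theorem cover4125 : ∀ x ∈ consSet cs4125, C4125.has (keyOf (x : GolayPt → ℤ)) = true :=
  Cert.cover_of_sub C4125 C11178 cover11178 (consSet_mono (by simp [cs4125, cs11178])) [([-1, -1, -1, -1, -1, -1, -1, -1, -1, -1, -1, -1, -1, -1, -1, -1, -1, -1, -1, -1, -1, -1, -1, -5], -16), ([-4, 0, 0, 0, 0, 0, 0, 0, 0, 0, 0, 0, 0, 0, 0, 0, 0, 0, 0, 0, 0, 0, 0, 4], 0)] (by decide +kernel) sub4125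

theorem spec4125 : OrbitSpec cs4125 root4125 4125 :=
  C4125.orbitSpec valid4125 cs4125 root4125 (by decide +kernel) (by decide +kernel) (by decide +kernel)
    (by decide +kernel) cover4125

end CfsgLib.Golay.LeechOrbit
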