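import Cfsg.Agent.Lib.Golay.LeechOrbit.CertB
import Cfsg.Agent.Lib.Golay.LeechOrbit.DataHS

/-!
# Orbits inside larger ones (checks, part D2).
-/

set_option autoImplicit false
set_option maxRecDepth 100000
set_option Elab.async false

namespace CfsgLib.Golay.LeechOrbit

open Cfsg CfsgLib.Golay CfsgLib.Sporadic

theorem steps5600_4 : allFrom 2800 700 (C5600.step) = true := by decide +kernel

theorem steps5600_5 : allFrom 3500 700 (C5600.step) = true := by decide +kernel

theorem steps5600_6 : allFrom 4200 700 (C5600.step) = true := by decide +kernel

theorem steps5600_7 : allFrom 4900 700 (C5600.step) = true := by decide +kernel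

end CfsgLib.Golay.LeechOrbit
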