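import Cfsg.Agent.Lib.Golay.LeechOrbit.CertB
import Cfsg.Agent.Lib.Golay.LeechOrbit.DataHS
import Cfsg.Agent.Lib.Golay.LeechOrbit.CertHSCoD1
import Cfsg.Agent.Lib.Golay.LeechOrbit.CertHSCoD2

/-!
# Orbits inside larger ones.
-/

set_option autoImplicit false
set_option maxRecDepth 100000
set_option Elab.async false

namespace CfsgLib.Golay.LeechOrbit

open Cfsg CfsgLib.Golay CfsgLib.Sporadic

theorem steps5600 : allFrom 0 5600 (C5600.step) = true := by
  exact (allFrom_append (allFrom_append (allFrom_append (allFrom_append (allFrom_append (allFrom_append (allFrom_append steps5600_0 steps5600_1) steps5600_2) steps5600_3) steps5600_4) steps5600_5) steps5600_6) steps5600_7)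

theorem valid5600 : C5600.Valid := ⟨cols_HS, steps5600⟩

end CfsgLib.Golay.LeechOrbit
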