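import Cfsg.Agent.Lib.Golay.LeechOrbit.CertB
import Cfsg.Agent.Lib.Golay.LeechOrbit.DataHS
import Cfsg.Agent.Lib.Golay.LeechOrbit.CertHSCoD
import Cfsg.Agent.Lib.Golay.LeechOrbit.CertHSCoE1
import Cfsg.Agent.Lib.Golay.LeechOrbit.CertHSCoE2

/-!
# Orbits inside larger ones.
-/

set_option autoImplicit false
set_option maxRecDepth 100000
set_option Elab.async false

namespace CfsgLib.Golay.LeechOrbit

open Cfsg CfsgLib.Golay CfsgLib.Sporadic

theorem sub5600 : allFrom 0 11178 (fun i => forceN (C11178.key i) fun k => !subB [([-1, -1, -1, -1, -1, -1, -1, -1, -1, -1, -1, -1, -1, -1, -1, -1, -1, -1, -1, -1, -1, -1, -1, -5], -16), ([-4, 0, 0, 0, 0, 0, 0, 0, 0, 0, 0, 0, 0, 0, 0, 0, 0, 0, 0, 0, 0, 0, 0, 4], 8)] (digitsF 24 k) || C5600.has k) = true := by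
  exact (allFrom_append (allFrom_append (allFrom_append (allFrom_append (allFrom_append sub5600_0 sub5600_1) sub5600_2) sub5600_3) sub5600_4) sub5600_5)

theorem cover5600 : ∀ x ∈ consSet cs5600, C5600.has (keyOf (x : GolayPt → ℤ)) = true :=
  Cert.cover_of_sub C5600 C11178 cover11178 (consSet_mono (by simp [cs5600, cs11178])) [([-1, -1, -1, -1, -1, -1, -1, -1, -1, -1, -1, -1, -1, -1, -1, -1, -1, -1, -1, -1, -1, -1, -1, -5], -16), ([-4, 0, 0, 0, 0, 0, 0, 0, 0, 0, 0, 0, 0, 0, 0, 0, 0, 0, 0, 0, 0, 0, 0, 4], 8)] (by decide +kernel) sub5600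

theorem spec5600 : OrbitSpec cs5600 root5600 5600 :=
  C5600.orbitSpec valid5600 cs5600 root5600 (by decide +kernel) (by decide +kernel) (by decide +kernel)
    (by decide +kernel) cover5600

end CfsgLib.Golay.LeechOrbit
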