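import Cfsg.Agent.Lib.Golay.LeechOrbit.CertHSCoA
import Cfsg.Agent.Lib.Golay.LeechOrbit.CertHSCoC
import Cfsg.Agent.Lib.Golay.LeechOrbit.CertHSCoE

/-!
# Orbits of lengths 1100, 4125 and 5600 inside the orbit of length 11178
-/
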