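import Cfsg.Agent.Lib.Golay.LeechOrbit.CertB
import Cfsg.Agent.Lib.Golay.LeechOrbit.DataHS

/-!
# Orbits inside larger ones (checks, part A2).
-/

set_option autoImplicit false
set_option maxRecDepth 100000
set_option Elab.async false

namespace CfsgLib.Golay.LeechOrbit

open Cfsg CfsgLib.Golay CfsgLib.Sporadic

theorem sub1100_2 : allFrom 4000 2000 (fun i => forceN (C11178.key i) fun k => !subB [([-1, -1, -1, -1, -1, -1, -1, -1, -1, -1, -1, -1, -1, -1, -1, -1, -1, -1, -1, -1, -1, -1, -1, -5], -16), ([-4, 0, 0, 0, 0, 0, 0, 0, 0, 0, 0, 0, 0, 0, 0, 0, 0, 0, 0, 0, 0, 0, 0, 4], 16)] (digitsF 24 k) || C1100.has k) = true := by decide +kernel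

theorem sub1100_3 : allFrom 6000 2000 (fun i => forceN (C11178.key i) fun k => !subB [([-1, -1, -1, -1, -1, -1, -1, -1, -1, -1, -1, -1, -1, -1, -1, -1, -1, -1, -1, -1, -1, -1, -1, -5], -16), ([-4, 0, 0, 0, 0, 0, 0, 0, 0, 0, 0, 0, 0, 0, 0, 0, 0, 0, 0, 0, 0, 0, 0, 4], 16)] (digitsF 24 k) || C1100.has k) = true := by decide +kernel

theorem sub1100_4 : allFrom 8000 2000 (fun i => forceN (C11178.key i) fun k => !subB [([-1, -1, -1, -1, -1, -1, -1, -1, -1, -1, -1, -1, -1, -1, -1, -1, -1, -1, -1, -1, -1, -1, -1, -5], -16), ([-4, 0, 0, 0, 0, 0, 0, 0, 0, 0, 0, 0, 0, 0, 0, 0, 0, 0, 0, 0, 0, 0, 0, 4], 16)] (digitsF 24 k) || C1100.has k) = true := by decide +kernel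

theorem sub1100_5 : allFrom 10000 1178 (fun i => forceN (C11178.key i) fun k => !subB [([-1, -1, -1, -1, -1, -1, -1, -1, -1, -1, -1, -1, -1, -1, -1, -1, -1, -1, -1, -1, -1, -1, -1, -5], -16), ([-4, 0, 0, 0, 0, 0, 0, 0, 0, 0, 0, 0, 0, 0, 0, 0, 0, 0, 0, 0, 0, 0, 0, 4], 16)] (digitsF 24 k) || C1100.has k) = true := by decide +kernel

end CfsgLib.Golay.LeechOrbit
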