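import Cfsg.Agent.Lib.Golay.LeechOrbit.CertB
import Cfsg.Agent.Lib.Golay.LeechOrbit.DataHS
import Cfsg.Agent.Lib.Golay.LeechOrbit.CertHSCoA1
import Cfsg.Agent.Lib.Golay.LeechOrbit.CertHSCoA2

/-!
# Orbits inside larger ones.
-/

set_option autoImplicit false
set_option maxRecDepth 100000
set_option Elab.async false

namespace CfsgLib.Golay.LeechOrbit

open Cfsg CfsgLib.Golay CfsgLib.Sporadic

theorem steps1100 : allFrom 0 1100 (C1100.step) = true := by
  exact (allFrom_append steps1100_0 steps1100_1)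

theorem valid1100 : C1100.Valid := ⟨cols_HS, steps1100⟩

theorem sub1100 : allFrom 0 11178 (fun i => forceN (C11178.key i) fun k => !subB [([-1, -1, -1, -1, -1, -1, -1, -1, -1, -1, -1, -1, -1, -1, -1, -1, -1, -1, -1, -1, -1, -1, -1, -5], -16), ([-4, 0, 0, 0, 0, 0, 0, 0, 0, 0, 0, 0, 0, 0, 0, 0, 0, 0, 0, 0, 0, 0, 0, 4], 16)] (digitsF 24 k) || C1100.has k) = true := by
  exact (allFrom_append (allFrom_append (allFrom_append (allFrom_append (allFrom_append sub1100_0 sub1100_1) sub1100_2) sub1100_3) sub1100_4) sub1100_5)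

theorem cover1100 : ∀ x ∈ consSet cs1100, C1100.has (keyOf (x : GolayPt → ℤ)) = true :=
  Cert.cover_of_sub C1100 C11178 cover11178 (consSet_mono (by simp [cs1100, cs11178])) [([-1, -1, -1, -1, -1, -1, -1, -1, -1, -1, -1, -1, -1, -1, -1, -1, -1, -1, -1, -1, -1, -1, -1, -5], -16), ([-4, 0, 0, 0, 0, 0, 0, 0, 0, 0, 0, 0, 0, 0, 0, 0, 0, 0, 0, 0, 0, 0, 0, 4], 16)] (by decide +kernel) sub1100

theorem spec1100 : OrbitSpec cs1100 root1100 1100 :=
  C1100.orbitSpec valid1100 cs1100 root1100 (by decide +kernel) (by decide +kernel) (by decide +kernel)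
    (by decide +kernel) cover1100

end CfsgLib.Golay.LeechOrbit
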