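import Cfsg.Agent.Lib.Golay.LeechOrbit.Cert

/-! An involution of the stabiliser of a Higman–Sims configuration without fixed points on 100 points. -/

set_option autoImplicit false
set_option maxRecDepth 20000

namespace CfsgLib.Golay.LeechOrbit

open CfsgLib.Sporadic

/-- The word. -/
def invWord : List Letter := [.E, .C, .C, .S, .E, .X, .C, .X, .Ci, .X, .C, .X, .S, .S, .C, .C, .S, .S, .X, .E, .X, .E, .X, .E, .C, .E, .Si, .Si, .Si, .Si, .Si, .Si, .Si, .Si, .Si, .Si, .Si, .E, .Ci, .E, .X, .E, .X, .E, .X, .Si, .Si, .Ci, .Ci, .Si, .Si, .X, .Ci, .X, .C, .X, .Ci, .X, .E, .Si, .Ci, .Ci, .E, .S, .S, .S, .S, .E, .Ci, .E, .X, .E, .X, .E, .X, .Si, .Si, .Ci, .Ci, .Si, .Si, .X, .Ci, .X, .C, .X, .Ci, .X, .E, .Si, .Ci, .Ci, .Ci, .E, .X, .E, .X, .E, .X, .Si, .Si, .Ci, .Ci, .Si, .Si, .X, .Ci, .X, .C, .X, .Ci,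 .X, .E, .Si, .Ci, .Ci, .E, .S, .E, .Ci, .E, .X, .E, .X, .E, .X, .Si, .Si, .Ci, .Ci, .Si, .Si, .X, .Ci, .X, .C, .X, .Ci, .X, .E, .Si, .Ci, .Ci, .E, .S, .S, .E, .Ci, .E, .X, .E, .X, .E, .X, .Si, .Si, .Ci, .Ci, .Si, .Si, .X, .Ci, .X, .C, .X, .Ci, .X, .E, .Si, .Ci, .Ci, .E, .S]

/-- Its images of the vectors `8 e`. -/
def invImg : List (List ℤ) := [[6, 0, 0, 0, 0, 2, 0, 2, 0, 0, 0, 2, 0, 0, 2, 0, 0, 0, 2, 2, 0, 0, 0, -2],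
  [0, -2, -2, 2, 2, 0, 2, 0, 2, -2, -2, 0, 2, 2, 0, -2, 2, 2, 0, 0, -2, 2, 2, 0],
  [0, -2, -2, 2, -2, 0, 2, 0, 2, 2, 2, 0, 2, -2, 0, 2, -2, 2, 0, 0, 2, 2, -2, 0],
  [0, 2, 2, -2, -2, 0, 2, 0, 2, 2, -2, 0, 2, 2, 0, -2, -2, -2, 0, 0, 2, 2, 2, 0],
  [0, 2, -2, -2, 2, 0, -2, 0, 2, 2, 2, 0, -2, 2, 0, 2, -2, 2, 0, 0, -2, 2, 2, 0],
  [2, 0, 0, 0, 0, -2, 0, -2, 0, 0, 0, -2, 0, 0, 6, 0, 0, 0, -2, -2, 0, 0, 0, 2],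
  [0, 2, 2, 2, -2, 0, 2, 0, -2, 2, -2, 0, -2, 2, 0, 2, 2, 2, 0, 0, -2, 2, -2, 0],
  [2, 0, 0, 0, 0, -2, 0, -2, 0, 0, 0, 6, 0, 0, -2, 0, 0, 0, -2, -2, 0, 0, 0, 2],
  [0, 2, 2, 2, 2, 0, -2, 0, 2, -2, -2, 0, 2, 2, 0, 2, -2, 2, 0, 0, 2, -2, -2, 0],
  [0, -2, 2, 2, 2, 0, 2, 0, -2, 2, 2, 0, 2, 2, 0, 2, -2, -2, 0, 0, -2, -2, 2, 0],
  [0, -2, 2, -2, 2, 0, -2, 0, -2, 2, -2, 0, 2, -2, 0, 2, 2, 2, 0, 0, 2, 2, 2, 0],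
  [2, 0, 0, 0, 0, -2, 0, 6, 0, 0, 0, -2, 0, 0, -2, 0, 0, 0, -2, -2, 0, 0, 0, 2],
  [0, 2, 2, 2, -2, 0, -2, 0, 2, 2, 2, 0, 2, -2, 0, -2, 2, 2, 0, 0, -2, -2, 2, 0],
  [0, 2, -2, 2, 2, 0, 2, 0, 2, 2, -2, 0, -2, -2, 0, 2, 2, -2, 0, 0, 2, -2, 2, 0],
  [2, 0, 0, 0, 0, 6, 0, -2, 0, 0, 0, -2, 0, 0, -2, 0, 0, 0, -2, -2, 0, 0, 0, 2],
  [0, -2, 2, -2, 2, 0, 2, 0, 2, 2, 2, 0, -2, 2, 0, -2, 2, 2, 0, 0, 2, -2, -2, 0],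
  [0, 2, -2, -2, -2, 0, 2, 0, -2, -2, 2, 0, 2, 2, 0, 2, 2, 2, 0, 0, 2, -2, 2, 0],
  [0, 2, 2, -2, 2, 0, 2, 0, 2, -2, 2, 0, 2, -2, 0, 2, 2, -2, 0, 0, -2, 2, -2, 0],
  [2, 0, 0, 0, 0, -2, 0, -2, 0, 0, 0, -2, 0, 0, -2, 0, 0, 0, -2, 6, 0, 0, 0, 2],
  [2, 0, 0, 0, 0, -2, 0, -2, 0, 0, 0, -2, 0, 0, -2, 0, 0, 0, 6, -2, 0, 0, 0, 2],
  [0, -2, 2, 2, -2, 0, -2, 0, 2, -2, 2, 0, -2, 2, 0, 2, 2, -2, 0, 0, 2, 2, 2, 0],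
  [0, 2, 2, 2, 2, 0, 2, 0, -2, -2, 2, 0, -2, -2, 0, -2, -2, 2, 0, 0, 2, 2, 2, 0],
  [0, 2, -2, 2, 2, 0, -2, 0, -2, 2, 2, 0, 2, 2, 0, -2, 2, -2, 0, 0, 2, 2, -2, 0],
  [-2, 0, 0, 0, 0, 2, 0, 2, 0, 0, 0, 2, 0, 0, 2, 0, 0, 0, 2, 2, 0, 0, 0, 6]]

/-- Its packed columns. -/
def invCols : List ℤ := [-9903359753678474258268815354, 655238419124152330971389408, -577865986076069429225054752, 660072868024014110298333728, 655238349947740827511021088, 9903359754254935010572238850, -582701615550667567709412832, 9903359753678614995757170690, -655237238513395970888031712, 577865916901909725712622048, 660074126996282725219033568, 9903359753678474260416299010, 577867166650806338137760288, 582701693948199857966685728, 9903359753678474258277203970, -655237169339226921392545312, 582702874558964979782770208, -582702796159172643374636512,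 9903964216588281572856168450, 9903397532610337215430524930, 660072946421554646758597088, 660074048596498635282326048, -577867097474385488962773472, 29710721503453694538503159806]

end CfsgLib.Golay.LeechOrbit
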