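import Cfsg.Agent.Lib.Golay.LeechOrbit.Search
import Cfsg.Agent.Lib.Golay.LeechOrbit.DataInv

/-!
# The fixed-point-free involution is an involution
-/

set_option autoImplicit false
set_option maxRecDepth 100000
set_option Elab.async false

namespace CfsgLib.Golay.LeechOrbit

open Cfsg CfsgLib.Golay CfsgLib.MonsterType CfsgLib.Sporadic

theorem inv_img0 : (([0, 1, 2] : List (Fin 24)).all fun j =>
    appE invWord (e8L j) == invImg.getD j.val []) = true := by
  decide +kernel

theorem inv_img1 : (([3, 4, 5] : List (Fin 24)).all fun j =>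
    appE invWord (e8L j) == invImg.getD j.val []) = true := by
  decide +kernel

theorem inv_img2 : (([6, 7, 8] : List (Fin 24)).all fun j =>
    appE invWord (e8L j) == invImg.getD j.val []) = true := by
  decide +kernel

theorem inv_img3 : (([9, 10, 11] : List (Fin 24)).all fun j =>
    appE invWord (e8L j) == invImg.getD j.val []) = true := by
  decide +kernel

theorem inv_img4 : (([12, 13, 14] : List (Fin 24)).all fun j =>
    appE invWord (e8L j) == invImg.getD j.val []) = true := by
  decide +kernel

theorem inv_img5 : (([15, 16, 17] : List (Fin 24)).all fun j =>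
    appE invWord (e8L j) == invImg.getD j.val []) = true := by
  decide +kernel

theorem inv_img6 : (([18, 19, 20] : List (Fin 24)).all fun j =>
    appE invWord (e8L j) == invImg.getD j.val []) = true := by
  decide +kernel

theorem inv_img7 : (([21, 22, 23] : List (Fin 24)).all fun j =>
    appE invWord (e8L j) == invImg.getD j.val []) = true := by
  decide +kernel

theorem inv_img : ∀ j : Fin 24, appW invWord (e8L j) = invImg.getD j.val [] := by
  intro j
  rw [← appE_eq]
  have h0 := inv_img0; have h1 := inv_img1; have h2 := inv_img2; have h3 := inv_img3; have h4 := inv_img4; have h5 := inv_img5; have h6 := inv_img6; have h7 := inv_img7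
  simp only [List.all_cons, List.all_nil, Bool.and_true, Bool.and_eq_true, beq_iff_eq] at h0 h1 h2 h3 h4 h5 h6 h7
  fin_cases j
  · exact h0.1
  · exact h0.2.1
  · exact h0.2.2
  · exact h1.1
  · exact h1.2.1
  · exact h1.2.2
  · exact h2.1
  · exact h2.2.1
  · exact h2.2.2
  · exact h3.1
  · exact h3.2.1
  · exact h3.2.2
  · exact h4.1
  · exact h4.2.1
  · exact h4.2.2
  · exact h5.1
  · exact h5.2.1
  · exact h5.2.2
  · exact h6.1
  · exact h6.2.1
  · exact h6.2.2
  · exact h7.1
  · exact h7.2.1
  · exact h7.2.2

theorem inv_symm : ∀ p : Fin 24 × Fin 24,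
    (invImg.getD p.1.val []).getD p.2.val 0 = (invImg.getD p.2.val []).getD p.1.val 0 := by
  decide +kernel

theorem inv_ne : (invImg.getD 0 [] == e8L 0) = false := by decide +kernel

/-- The word is an element of order two. -/
theorem inv_order : orderOf (wordW invWord) = 2 := by
  refine orderOf_eq_prime ?_ fun h => ?_
  · refine ext_latE fun p => ?_
    obtain ⟨i, rfl⟩ : ∃ i, pt i = p := ⟨idx p, pt_idx p⟩
    have himg : ∀ i k : Fin 24,
        ((wordW invWord • LeechEight.latE (pt i) : leechLattice) : GolayPt → ℤ) (pt k) =
          (invImg.getD i.val []).getD k.val 0 := fun i k => by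
      refine (getD_toL _ k).symm.trans ?_
      rw [toL_wordW, toL_latE, inv_img i]
    rw [pow_two, mul_smul, one_smul]
    apply Subtype.ext
    funext q
    obtain ⟨k, rfl⟩ : ∃ k, pt k = q := ⟨idx q, pt_idx q⟩
    have h8 := LeechEight.eight_addHom (wordW invWord) (wordW invWord • LeechEight.latE (pt i)) (pt k)
    change 8 * ((wordW invWord • wordW invWord • LeechEight.latE (pt i) : leechLattice) : GolayPt → ℤ) (pt k) =
      ∑ j, ((wordW invWord • LeechEight.latE (pt i) : leechLattice) : GolayPt → ℤ) j *
        ((wordW invWord • LeechEight.latE j : leechLattice) : GolayPt → ℤ) (pt k) at h8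
    have hdot : ∑ j, ((wordW invWord • LeechEight.latE (pt i) : leechLattice) : GolayPt → ℤ) j *
        ((wordW invWord • LeechEight.latE j : leechLattice) : GolayPt → ℤ) (pt k) =
        8 * ((LeechEight.latE (pt i) : leechLattice) : GolayPt → ℤ) (pt k) := by
      have h2 := dot_smul_lat (wordW invWord) (LeechEight.latE (pt i)) (LeechEight.latE (pt k))
      rw [coe_latE, coe_latE, dot_single_right] at h2
      rw [coe_latE, mul_comm (8 : ℤ), ← h2]
      refine Finset.sum_congr rfl fun j _ => ?_
      obtain ⟨m, rfl⟩ : ∃ m, pt m = j := ⟨idx j, pt_idx j⟩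
      rw [himg m k, himg k m, inv_symm (m, k)]
    linarith
  · have h0 := inv_img 0
    rw [← toL_latE, ← toL_wordW, h, one_smul, toL_latE] at h0
    have := inv_ne
    simp only [Fin.val_zero] at h0
    rw [← h0] at this
    simp at this

end CfsgLib.Golay.LeechOrbit
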