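import Cfsg.Agent.Lib.Golay.LeechOrbit.Transfer
import Cfsg.Agent.Lib.Golay.LeechOrbit.CertA
import Cfsg.Agent.Lib.Golay.LeechOrbit.CertB

/-!
# Normal forms of pairs with a vector of squared length 48, and related lemmas
-/

set_option autoImplicit false

namespace CfsgLib.Golay.LeechOrbit

open Cfsg CfsgLib.Golay CfsgLib.MonsterType CfsgLib.Sporadic

theorem dot_of_sub_norm {u v : GolayPt → ℤ} {a b c : ℤ} (hu : sqNorm u = a) (hv : sqNorm v = b)
    (h : sqNorm (u - v) = c) : 2 * dotInt u v = a + b - c := by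
  rw [sqNorm_sub_eq, hu, hv] at h
  linarith

theorem sub_norm_of_dot {u v : GolayPt → ℤ} (hu : sqNorm u = 48) (hv : sqNorm v = 32)
    (h : dotInt u v = 24) : sqNorm (u - v) = 32 := by
  rw [sqNorm_sub_eq, hu, hv, h]; norm_num

theorem add_norm {u v : GolayPt → ℤ} {a b d : ℤ} (hu : sqNorm u = a) (hv : sqNorm v = b)
    (h : dotInt u v = d) : sqNorm (u + v) = a + b + 2 * d := by
  rw [sqNorm_add_eq, hu, hv, h]

/-- A vector of squared length 48 and a summand, to normal form. -/
theorem exists_normal_552 {u v : leechLattice} (hu : sqNorm (u : GolayPt → ℤ) = 48)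
    (hv : sqNorm (v : GolayPt → ℤ) = 32) (hd : dotInt (u : GolayPt → ℤ) (v : GolayPt → ℤ) = 24) :
    ∃ γ : Co0, γ • u = Spor.leechV ∧ γ • v = negU := by
  obtain ⟨α, hα⟩ := exists_smul_eq_leechV hu
  have hm : α • v ∈ consSet cs552 := by
    refine ⟨by rw [sqNorm_smul_lat, hv], fun c hc => ?_⟩
    simp only [cs552, List.mem_singleton] at hc
    subst hc
    rw [← hα, dot_smul_lat, hd]
  obtain ⟨δ, hδ, e⟩ := spec552.exists_smul hm spec552.root_mem
  refine ⟨δ * α, ?_, by rw [mul_smul, e]; rfl⟩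
  rw [mul_smul, hα]
  exact hδ (Spor.leechV, 24) (by simp [cs552])

/-- A vector of squared length 48 and a minimal vector at inner product `-16`, to normal form. -/
theorem exists_normal_11178 {u v : leechLattice} (hu : sqNorm (u : GolayPt → ℤ) = 48)
    (hv : sqNorm (v : GolayPt → ℤ) = 32) (hd : dotInt (u : GolayPt → ℤ) (v : GolayPt → ℤ) = -16) :
    ∃ γ : Co0, γ • u = Spor.leechV ∧ γ • v = Spor.leechU' := by
  obtain ⟨α, hα⟩ := exists_smul_eq_leechV hu
  have hm : α • v ∈ consSet cs11178 := by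
    refine ⟨by rw [sqNorm_smul_lat, hv], fun c hc => ?_⟩
    simp only [cs11178, List.mem_singleton] at hc
    subst hc
    rw [← hα, dot_smul_lat, hd]
  obtain ⟨δ, hδ, e⟩ := spec11178.exists_smul hm spec11178.root_mem
  refine ⟨δ * α, ?_, by rw [mul_smul, e]; rfl⟩
  rw [mul_smul, hα]
  exact hδ (Spor.leechV, -16) (by simp [cs11178])

/-- Two vectors of squared length 48 with inner product `-32`, to normal form. -/
theorem exists_normal_pair {v w : leechLattice} (hv : sqNorm (v : GolayPt → ℤ) = 48)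
    (hw : sqNorm (w : GolayPt → ℤ) = 48) (hd : dotInt (v : GolayPt → ℤ) (w : GolayPt → ℤ) = -32) :
    ∃ γ : Co0, γ • v = Spor.leechV ∧ γ • w = vecWL := by
  have hn : sqNorm ((-(v + w) : leechLattice) : GolayPt → ℤ) = 32 := by
    rw [AddSubgroup.coe_neg, sqNorm_neg, AddSubgroup.coe_add, add_norm hv hw hd]; norm_num
  have hdd : dotInt (v : GolayPt → ℤ) ((-(v + w) : leechLattice) : GolayPt → ℤ) = -16 := by
    rw [AddSubgroup.coe_neg, dot_neg_right, AddSubgroup.coe_add, dot_add_right, dot_self, hv, hd]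
    norm_num
  obtain ⟨γ, h1, h2⟩ := exists_normal_11178 hv hn hdd
  refine ⟨γ, h1, ?_⟩
  rw [smul_neg', smul_add', h1, neg_eq_iff_eq_neg] at h2
  rw [vecWL, eq_sub_of_add_eq' h2]
  abel

/-- Membership in a singly constrained set. -/
theorem mem_cons1 {c x : leechLattice} {a : ℤ} : x ∈ consSet [(c, a)] ↔
    sqNorm (x : GolayPt → ℤ) = 32 ∧ dotInt (c : GolayPt → ℤ) (x : GolayPt → ℤ) = a := by
  simp [consSet]

/-- Membership in a doubly constrained set. -/
theorem mem_cons2 {c d x : leechLattice} {a b : ℤ} : x ∈ consSet [(c, a), (d, b)] ↔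
    sqNorm (x : GolayPt → ℤ) = 32 ∧ dotInt (c : GolayPt → ℤ) (x : GolayPt → ℤ) = a ∧
      dotInt (d : GolayPt → ℤ) (x : GolayPt → ℤ) = b := by
  simp [consSet]

/-- Membership in a triply constrained set. -/
theorem mem_cons3 {c d e x : leechLattice} {a b k : ℤ} : x ∈ consSet [(c, a), (d, b), (e, k)] ↔
    sqNorm (x : GolayPt → ℤ) = 32 ∧ dotInt (c : GolayPt → ℤ) (x : GolayPt → ℤ) = a ∧
      dotInt (d : GolayPt → ℤ) (x : GolayPt → ℤ) = b ∧ dotInt (e : GolayPt → ℤ) (x : GolayPt → ℤ) = k := by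
  simp [consSet]

theorem consStab2 {c d : leechLattice} {a b : ℤ} {γ : Co0} :
    γ ∈ consStab [(c, a), (d, b)] ↔ γ • c = c ∧ γ • d = d := by
  simp [mem_consStab]

theorem consStab3 {c d e : leechLattice} {a b k : ℤ} {γ : Co0} :
    γ ∈ consStab [(c, a), (d, b), (e, k)] ↔ γ • c = c ∧ γ • d = d ∧ γ • e = e := by
  simp [mem_consStab]

/-- Inner products between distinct members of a covered set. -/
theorem dot_cases_of_check (C : Cert) {cs : List (leechLattice × ℤ)} {x : leechLattice} {D : List ℤ}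
    (hcover : ∀ y ∈ consSet cs, C.has (keyOf (y : GolayPt → ℤ)) = true)
    (lx : List ℤ) (hlx : lx = toL (x : GolayPt → ℤ))
    (h : allFrom 0 C.n (fun i => forceN (C.key i) fun k =>
      (fun l => l == lx || D.contains (dotL lx l)) (digitsF 24 k)) = true) :
    ∀ y ∈ consSet cs, y = x ∨ dotInt (x : GolayPt → ℤ) (y : GolayPt → ℤ) ∈ D := by
  intro y hy
  subst hlx
  have h' := C.forall_of_all (P := fun l => l == toL (x : GolayPt → ℤ) ||
    D.contains (dotL (toL (x : GolayPt → ℤ)) l)) hcover h y hy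
  simp only [Bool.or_eq_true, beq_iff_eq, List.contains_iff_mem] at h'
  rcases h' with e | e
  · exact Or.inl (Subtype.ext (toL_injective e))
  · exact Or.inr (by rwa [dotInt_eq_dotL])

/-- Transport of a dichotomy along an automorphism. -/
theorem dot_cases_transfer {cs ds : List (leechLattice × ℤ)} {x x' : leechLattice} {D : List ℤ}
    (h : ∀ y ∈ consSet ds, y = x' ∨ dotInt (x' : GolayPt → ℤ) (y : GolayPt → ℤ) ∈ D) (γ : Co0)
    (he : mapC γ cs = ds) (hx : γ • x = x') :
    ∀ y ∈ consSet cs, y = x ∨ dotInt (x : GolayPt → ℤ) (y : GolayPt → ℤ) ∈ D := by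
  intro y hy
  subst he hx
  rcases h _ (smul_mem_mapC_iff.mpr hy) with e | e
  · exact Or.inl (MulAction.injective γ e)
  · rw [dot_smul_lat] at e; exact Or.inr e

end CfsgLib.Golay.LeechOrbit
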