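import Cfsg.Agent.Lib.Golay.LeechOrbit.Cert

/-!
# Complete search of the minimal vectors with a given inner product

The minimal vectors have three shapes: two coordinates `±4`, an octad of `±2` with evenly many
minus signs, and `±1` with one `∓3` following a code word.
-/

set_option autoImplicit false

namespace CfsgLib.Golay.LeechOrbit

open Cfsg CfsgLib.Golay CfsgLib.MonsterType CfsgLib.Sporadic

/-- The coordinate of a list at a position. -/
def coordOf (u : List ℤ) (i : ℕ) : ℤ := u.getD i 0

/-- Two coordinates `±4`. -/
def chkA (P : ℤ → Bool) (u : List ℤ) (a : ℤ) : Bool :=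
  (List.range 24).all fun i => (List.range 24).all fun j => i == j ||
    ([4, -4] : List ℤ).all fun s => ([4, -4] : List ℤ).all fun t =>
      !decide (s * coordOf u i + t * coordOf u j = a) || P (off + (s * pw i + t * pw j))

/-- All signs `±2` with evenly many minus signs, by pairs of increments. -/
def goB (P : ℤ → Bool) (a : ℤ) : List (ℤ × ℤ) → ℤ → ℤ → Bool → Bool
  | [], D, K, odd => odd || !decide (D = a) || P K
  | (d, e) :: l, D, K, odd => forceZ D fun D => forceZ K fun K => forceZ d fun d => forceZ e fun e =>
      goB P a l (D + d) (K + e) odd && goB P a l (D - d) (K - e) (!odd)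

/-- The octad shape for one code word. -/
def chkB (P : ℤ → Bool) (u : List ℤ) (a : ℤ) (k : ℕ) : Bool :=
  forceN (codeWord k) fun c => bif popc c == 8 then
    goB P a (((List.range 24).filter fun i => c.testBit i).map
      fun i => (2 * coordOf u i, 2 * pw i)) 0 off false
  else true

/-- The sign of a position in a word. -/
def sg (c i : ℕ) : ℤ := bif c.testBit i then -1 else 1

/-- The odd shape for one code word. -/
def chkC (P : ℤ → Bool) (u : List ℤ) (a : ℤ) (k : ℕ) : Bool :=
  forceN (codeWord k) fun c =>
    forceZ ((List.range 24).map fun i => sg c i * coordOf u i).sum fun D =>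
    forceZ (off + ((List.range 24).map fun i => sg c i * pw i).sum) fun K =>
      (List.range 24).all fun j =>
        !decide (D - 4 * sg c j * coordOf u j = a) || P (K - 4 * sg c j * pw j)

theorem sum_range_eq (f : ℕ → ℤ) : ((List.range 24).map f).sum = ∑ p : GolayPt, f (idx p).val := by
  rw [← sum_pt fun p => f (idx p).val]
  simp only [idx_pt]
  rw [Fin.sum_univ_eq_sum_range f]
  rfl

theorem goB_spec (P : ℤ → Bool) (a : ℤ) (x d e : ℕ → ℤ) : ∀ (L : List ℕ) (D K : ℤ) (odd : Bool),
    goB P a (L.map fun i => (2 * d i, 2 * e i)) D K odd = true → (∀ i ∈ L, x i = 2 ∨ x i = -2) →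
    ((L.map x).sum - 2 * L.length + bif odd then 4 else 0) % 8 = 0 →
    D + (L.map fun i => x i * d i).sum = a → P (K + (L.map fun i => x i * e i).sum) = true
  | [], D, K, odd, h, _, hpar, hD => by
    cases odd
    · simp only [List.map_nil, List.sum_nil, add_zero] at hD
      simpa [goB, hD] using h
    · simp at hpar
  | i :: L, D, K, odd, h, hx, hpar, hD => by
    simp only [List.map_cons, goB, forceZ_eq, Bool.and_eq_true] at h
    have hL : ∀ k ∈ L, x k = 2 ∨ x k = -2 := fun k hk => hx k (List.mem_cons_of_mem _ hk)
    simp only [List.map_cons, List.sum_cons, List.length_cons] at hpar hD ⊢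
    push_cast at hpar
    rcases hx i (by simp) with hi | hi <;> rw [hi] at hpar hD ⊢
    · have := goB_spec P a x d e L (D + 2 * d i) (K + 2 * e i) odd h.1 hL
        (by cases odd <;> simp only [cond_true, cond_false] at hpar ⊢ <;> omega) (by linarith)
      rwa [add_assoc] at this
    · have := goB_spec P a x d e L (D - 2 * d i) (K - 2 * e i) (!odd) h.2 hL
        (by cases odd <;> simp only [cond_true, cond_false, Bool.not_true, Bool.not_false] at hpar ⊢ <;> omega)
        (by linarith)
      rwa [show K + ((-2) * e i + (L.map fun i => x i * e i).sum) =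
        K - 2 * e i + (L.map fun i => x i * e i).sum by ring]

/-- The search is complete. -/
theorem search_complete (P : ℤ → Bool) (u : GolayPt → ℤ) (a : ℤ)
    (hA : chkA P (toL u) a = true)
    (hB : allFrom 0 4096 (chkB P (toL u) a) = true)
    (hC : allFrom 0 4096 (chkC P (toL u) a) = true)
    {x : GolayPt → ℤ} (hx : x ∈ leechLattice) (hn : sqNorm x = 32) (hd : dotInt u x = a) :
    P (pack x + off) = true := by
  classical
  have hu : ∀ p, coordOf (toL u) (idx p).val = u p := fun p => by
    rw [coordOf, getD_toL, pt_idx]
  have hdot : ∑ p, x p * u p = a := by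
    rw [← hd, dotInt]; exact Finset.sum_congr rfl fun p _ => mul_comm _ _
  have hpack := pack_eq_sum x
  rcases mem_leechLattice'.mp hx with hm | hm
  · -- even coordinates
    obtain ⟨k, hk, hkw⟩ := exists_codeWord (mem_golayCode.mp hm.2.2)
    have hbit : ∀ p, (codeWord k).testBit (idx p).val = true ↔ x p % 4 = 2 := fun p => by
      rw [hkw, testBit_enc, decide_eq_true_eq, twoWord, show (1 : ZMod 2) = ((1 : ℤ) : ZMod 2) by norm_num,
        ZMod.intCast_eq_intCast_iff_dvd_sub]
      have := (hm.1 p).symm.dvd
      push_cast
      omega
    have hev : ∀ p, x p % 2 = 0 := fun p => by have := (hm.1 p).symm.dvd; omega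
    set S := Finset.univ.filter fun p => (codeWord k).testBit (idx p).val with hS
    have hcard : S.card = popc (codeWord k) := by rw [← card_decS (codeWord_lt k)]; rfl
    have hlow : ∀ p ∈ (Finset.univ : Finset GolayPt), (if p ∈ S then 4 else 0 : ℤ) ≤ x p ^ 2 := by
      intro p _
      split_ifs with hp
      · have h2 := (hbit p).mp (Finset.mem_filter.mp hp).2
        rcases (show 2 ≤ x p ∨ x p ≤ -2 by omega) with h | h <;> nlinarith
      · exact sq_nonneg _
    have hle := Finset.sum_le_sum hlow
    have hsumS : ∑ p, (if p ∈ S then 4 else 0 : ℤ) = 4 * (popc (codeWord k) : ℤ) := by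
      rw [Finset.sum_ite_mem, Finset.univ_inter, Finset.sum_const, hcard, nsmul_eq_mul, mul_comm]
    rcases Finset.eq_empty_or_nonempty S with h0 | hne
    · -- two coordinates four
      have h4 : ∀ p, (4 : ℤ) ∣ x p := fun p => by
        have h1 : ¬ (codeWord k).testBit (idx p).val = true := fun h =>
          Finset.notMem_empty p (h0 ▸ Finset.mem_filter.mpr ⟨Finset.mem_univ p, h⟩)
        rw [hbit] at h1
        have := hev p
        omega
      choose y hy using h4
      have hy2 : ∑ p, y p ^ 2 = 2 := by
        have : sqNorm x = 16 * ∑ p, y p ^ 2 := by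
          rw [sqNorm, Finset.mul_sum]
          exact Finset.sum_congr rfl fun p _ => by rw [hy p]; ring
        omega
      have hone : ∀ q, y q ^ 2 = 0 ∨ y q ^ 2 = 1 := fun q => by
        have h := Finset.single_le_sum (f := fun p => y p ^ 2) (fun p _ => sq_nonneg _) (Finset.mem_univ q)
        rw [hy2] at h
        rcases (show y q = 0 ∨ y q = 1 ∨ y q = -1 by
          have : -1 ≤ y q ∧ y q ≤ 1 := ⟨by nlinarith, by nlinarith⟩
          omega) with e | e | e <;> simp [e]
      have hfc : (Finset.univ.filter fun p => y p ^ 2 = 1).card = 2 := by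
        have : ∑ p, y p ^ 2 = ((Finset.univ.filter fun p => y p ^ 2 = 1).card : ℤ) := by
          rw [← Finset.sum_boole]
          exact Finset.sum_congr rfl fun p _ => by rcases hone p with e | e <;> simp [e]
        omega
      obtain ⟨i, j, hij, hfe⟩ := Finset.card_eq_two.mp hfc
      have hz : ∀ p, p ≠ i → p ≠ j → x p = 0 := fun p hpi hpj => by
        have : p ∉ Finset.univ.filter fun p => y p ^ 2 = 1 := by rw [hfe]; simp [hpi, hpj]
        rw [Finset.mem_filter, not_and] at this
        rcases hone p with e | e
        · rw [hy p, pow_eq_zero_iff two_ne_zero |>.mp e, mul_zero]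
        · exact absurd e (this (Finset.mem_univ p))
      have hv : ∀ q ∈ ({i, j} : Finset GolayPt), x q ∈ ([4, -4] : List ℤ) := fun q hq => by
        rw [← hfe, Finset.mem_filter] at hq
        rcases sq_eq_one_iff.mp hq.2 with e | e <;> rw [hy q, e] <;> simp
      have hsum : ∀ f : GolayPt → ℤ, ∑ p, x p * f p = x i * f i + x j * f j := fun f => by
        rw [← Finset.sum_subset (Finset.subset_univ ({i, j} : Finset GolayPt)) (fun p _ hp => by
          rw [Finset.mem_insert, Finset.mem_singleton, not_or] at hp
          rw [hz p hp.1 hp.2, zero_mul]), Finset.sum_pair hij]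
      simp only [chkA, List.all_eq_true, List.mem_range, Bool.or_eq_true, beq_iff_eq, Bool.not_eq_true',
        decide_eq_false_iff_not] at hA
      rcases hA _ (idx i).isLt _ (idx j).isLt with h | h
      · exact absurd (idx_injective (Fin.ext h)) hij
      · rcases h _ (hv i (by simp)) _ (hv j (by simp)) with h' | h'
        · rw [hu, hu] at h'
          exact absurd ((hsum u).symm.trans hdot) h'
        · rwa [hpack, hsum fun p => pw (idx p).val, add_comm]
    · -- an octad of twos
      have h8 : (8 : ℤ) ≤ (S.card : ℤ) := by
        have hs : support₂ (twoWord x 0) = S := by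
          ext p
          rw [hS, Finset.mem_filter, hkw, testBit_enc, support₂, Finset.mem_filter, decide_eq_true_eq]
          generalize twoWord x 0 p = b
          simp only [Finset.mem_univ, true_and]
          revert b; decide
        exact_mod_cast hs ▸ eight_le_card_support ⟨_, hm.2.2, rfl⟩ (hs.symm ▸ hne)
      rw [hsumS] at hle
      have hn' : ∑ p, x p ^ 2 = 32 := hn
      have hp8 : popc (codeWord k) = 8 := by omega
      have heq := (Finset.sum_eq_sum_iff_of_le hlow).mp (by rw [hsumS, hp8, hn']; norm_num)
      have hin : ∀ p, (codeWord k).testBit (idx p).val = true → x p = 2 ∨ x p = -2 := fun p hp => by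
        have h := heq p (Finset.mem_univ p)
        rw [if_pos (Finset.mem_filter.mpr ⟨Finset.mem_univ p, hp⟩)] at h
        have : (x p - 2) * (x p + 2) = 0 := by linarith
        rcases mul_eq_zero.mp this with e | e <;> omega
      have hout : ∀ p, (codeWord k).testBit (idx p).val = false → x p = 0 := fun p hp => by
        have h := heq p (Finset.mem_univ p)
        rw [if_neg (by simp [hS, hp])] at h
        exact pow_eq_zero_iff two_ne_zero |>.mp h.symm
      have hfilter : ∀ f : ℕ → ℤ, (∀ p, (codeWord k).testBit (idx p).val = false → f (idx p).val = 0) →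
          (((List.range 24).filter fun i => (codeWord k).testBit i).map f).sum = ∑ p, f (idx p).val := by
        intro f hf
        rw [← List.sum_toFinset _ (List.nodup_range.filter _), List.toFinset_filter, Finset.sum_filter,
          List.toFinset_range, ← Fin.sum_univ_eq_sum_range (fun i => if (codeWord k).testBit i then f i else 0),
          ← sum_pt fun p => f (idx p).val]
        refine Finset.sum_congr rfl fun i _ => ?_
        simp only [idx_pt]
        cases hb : (codeWord k).testBit i.val
        · have := hf (pt i) (by rw [idx_pt]; exact hb)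
          rw [idx_pt] at this
          simp [this]
        · simp
      have h := of_allFrom_zero hB hk
      rw [chkB, forceN_eq, show (popc (codeWord k) == 8) = true by rw [hp8]; rfl, cond_true] at h
      have hxx : ∀ p, coordOf (toL x) (idx p).val = x p := fun p => by rw [coordOf, getD_toL, pt_idx]
      have hlen : ((List.range 24).filter fun i => (codeWord k).testBit i).length = 8 := by
        rw [← hp8, popc_eq_countP, List.countP_eq_length_filter]
      have hmain := goB_spec P a (coordOf (toL x)) (coordOf (toL u)) pw _ 0 off false h ?_ ?_ ?_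
      · rw [hfilter _ (fun p hp => by rw [hxx, hout p hp, zero_mul])] at hmain
        simp only [hxx] at hmain
        rwa [hpack, add_comm]
      · intro i hi
        rw [List.mem_filter, List.mem_range] at hi
        have := hxx (pt ⟨i, hi.1⟩)
        rw [idx_pt] at this
        rw [this]
        exact hin _ (by rw [idx_pt]; exact hi.2)
      · rw [hfilter _ (fun p hp => by rw [hxx, hout p hp]), hlen]
        simp only [hxx, cond_false]
        have := hm.2.1.dvd
        omega
      · rw [hfilter _ (fun p hp => by rw [hxx, hout p hp, zero_mul])]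
        simp only [hxx, hu, zero_add]
        exact hdot
  · -- odd coordinates
    obtain ⟨k, hk, hkw⟩ := exists_codeWord (mem_golayCode.mp hm.2.2)
    have hodd : ∀ p, x p % 2 = 1 := fun p => by have := (hm.1 p).symm.dvd; omega
    have hsq : ∀ p, ∃ q, 0 ≤ q ∧ x p ^ 2 = 1 + 8 * q := fun p => by
      obtain ⟨t, ht⟩ : ∃ t, x p = 2 * t + 1 := ⟨x p / 2, by have := hodd p; omega⟩
      have he : (2 : ℤ) ∣ t * (t + 1) := (Int.even_mul_succ_self t).two_dvd
      obtain ⟨q, hq⟩ := he
      refine ⟨q, ?_, by rw [ht]; linear_combination 4 * hq⟩
      rcases le_or_gt 0 t with h | h <;> nlinarith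
    choose q hq0 hq using hsq
    have hq1 : ∑ p, q p = 1 := by
      have : sqNorm x = 24 + 8 * ∑ p, q p := by
        rw [sqNorm, Finset.sum_congr rfl fun p _ => hq p, Finset.sum_add_distrib, Finset.sum_const,
          Finset.card_univ, card_golayPt, ← Finset.mul_sum]
        rfl
      omega
    obtain ⟨j, hj⟩ : ∃ j, q j ≠ 0 := by
      by_contra hall
      push Not at hall
      rw [Finset.sum_eq_zero fun p _ => hall p] at hq1
      norm_num at hq1
    have hj1 : q j = 1 := by
      have := Finset.single_le_sum (f := q) (fun p _ => hq0 p) (Finset.mem_univ j)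
      have := hq0 j
      omega
    have hrest : ∀ p, p ≠ j → q p = 0 := fun p hp => by
      have := Finset.add_le_sum (f := q) (fun p _ => hq0 p) (Finset.mem_univ j) (Finset.mem_univ p) hp.symm
      have := hq0 p
      omega
    have hval : ∀ p, x p = sg (codeWord k) (idx p).val - (if p = j then 4 * sg (codeWord k) (idx p).val else 0) := by
      intro p
      have hb : (codeWord k).testBit (idx p).val = true ↔ (x p - 1) / 2 % 2 = 1 := by
        rw [hkw, testBit_enc, decide_eq_true_eq, twoWord, show (1 : ZMod 2) = ((1 : ℤ) : ZMod 2) by norm_num,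
          ZMod.intCast_eq_intCast_iff_dvd_sub]
        push_cast
        omega
      have h9 : x p = 1 ∨ x p = -1 ∨ x p = 3 ∨ x p = -3 := by
        have h := hq p
        have hle : q p ≤ 1 := by
          rcases eq_or_ne p j with rfl | hp
          · omega
          · rw [hrest p hp]; norm_num
        have hb : -3 ≤ x p ∧ x p ≤ 3 := ⟨by nlinarith, by nlinarith⟩
        have := hodd p
        omega
      rcases eq_or_ne p j with rfl | hp
      · have h := hq p
        rw [hj1] at h
        simp only [if_true, sg]
        rcases h9 with e | e | e | e <;> rw [e] at h hb ⊢ <;> norm_num at h <;>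
          cases hc : (codeWord k).testBit (idx p).val <;> rw [hc] at hb <;> simp at hb ⊢
      · have h := hq p
        rw [hrest p hp] at h
        rw [if_neg hp, sg]
        rcases h9 with e | e | e | e <;> rw [e] at h hb ⊢ <;> norm_num at h <;>
          cases hc : (codeWord k).testBit (idx p).val <;> rw [hc] at hb <;> simp at hb ⊢
    have hsum : ∀ f : ℕ → ℤ, ∑ p, x p * f (idx p).val =
        ((List.range 24).map fun i => sg (codeWord k) i * f i).sum -
          4 * sg (codeWord k) (idx j).val * f (idx j).val := fun f => by
      rw [sum_range_eq, Finset.sum_congr rfl fun p _ => by rw [hval p, sub_mul, ite_mul, zero_mul],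
        Finset.sum_sub_distrib, Finset.sum_ite_eq', if_pos (Finset.mem_univ j)]
    have h := of_allFrom_zero hC hk
    simp only [chkC, forceN_eq, forceZ_eq, List.all_eq_true, List.mem_range, Bool.or_eq_true, Bool.not_eq_true',
      decide_eq_false_iff_not] at h
    rcases h _ (idx j).isLt with h' | h'
    · refine absurd ?_ h'
      rw [← hsum, ← hdot]
      exact Finset.sum_congr rfl fun p _ => by rw [hu]
    · rwa [add_sub_assoc, ← hsum, ← hpack, add_comm] at h'

/-- The search covers a constrained set. -/
theorem cover_of_search (C : Cert) (c : leechLattice) (a : ℤ) (l : List ℤ)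
    (hl : l = toL (c : GolayPt → ℤ))
    (hA : chkA (fun K => C.has K.toNat) l a = true)
    (hB : allFrom 0 4096 (chkB (fun K => C.has K.toNat) l a) = true)
    (hC : allFrom 0 4096 (chkC (fun K => C.has K.toNat) l a) = true) :
    ∀ x ∈ consSet [(c, a)], C.has (keyOf (x : GolayPt → ℤ)) = true := fun x hx =>
  search_complete _ _ a (hl ▸ hA) (hl ▸ hB) (hl ▸ hC) x.2 hx.1 (hx.2 (c, a) (by simp))

end CfsgLib.Golay.LeechOrbit
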