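import Cfsg.Agent.Lib.Golay.Co0

/-!
# Coordinate lists and packed keys for vectors of length 24

A vector is listed by position (`idx`), and packed into one number by sixteen-ary digits shifted
by 8.  Packing is linear, and injective on vectors with coordinates in `[-8, 7]`.
-/

set_option autoImplicit false

namespace CfsgLib.Golay.LeechOrbit

open Cfsg CfsgLib.Golay

/-- Coordinates by position. -/
def toL (x : GolayPt → ℤ) : List ℤ := List.ofFn fun i : Fin 24 => x (pt i)

/-- The function of a coordinate list. -/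
def ofL (l : List ℤ) : GolayPt → ℤ := fun p => l.getD (idx p).val 0

theorem length_toL (x : GolayPt → ℤ) : (toL x).length = 24 := List.length_ofFn

theorem toL_injective : Function.Injective toL := fun x y h => by
  have h' := List.ofFn_inj.mp h
  funext p
  have := congrFun h' (idx p)
  simpa [pt_idx] using this

theorem getD_toL (x : GolayPt → ℤ) (i : Fin 24) : (toL x).getD i.val 0 = x (pt i) := by
  rw [toL, List.getD_eq_getElem _ _ (by simp), List.getElem_ofFn]

theorem ofL_toL (x : GolayPt → ℤ) : ofL (toL x) = x := by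
  funext p
  rw [ofL, getD_toL, pt_idx]

theorem toL_ofL {l : List ℤ} (h : l.length = 24) : toL (ofL l) = l := by
  refine List.ext_getElem (by simp [length_toL, h]) fun i h1 h2 => ?_
  simp only [toL, List.getElem_ofFn, ofL, idx_pt]
  rw [List.getD_eq_getElem _ _ h2]

/-- Inner product of coordinate lists. -/
def dotL : List ℤ → List ℤ → ℤ
  | a :: l, b :: m => a * b + dotL l m
  | _, _ => 0

theorem dotL_ofFn : ∀ {n : ℕ} (f g : Fin n → ℤ), dotL (List.ofFn f) (List.ofFn g) = ∑ i, f i * g i
  | 0, f, g => by simp [dotL]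
  | n + 1, f, g => by
    rw [List.ofFn_succ, List.ofFn_succ, dotL, dotL_ofFn, Fin.sum_univ_succ]

theorem sum_pt {M : Type*} [AddCommMonoid M] (f : GolayPt → M) : ∑ i : Fin 24, f (pt i) = ∑ p, f p :=
  Equiv.sum_comp ptEquiv f

theorem dotInt_eq_dotL (x y : GolayPt → ℤ) : dotInt x y = dotL (toL x) (toL y) := by
  rw [toL, toL, dotL_ofFn, dotInt, ← sum_pt fun p => x p * y p]

theorem sqNorm_eq_dotL (x : GolayPt → ℤ) : sqNorm x = dotL (toL x) (toL x) := by
  rw [← dot_self, dotInt_eq_dotL]

/-- Sixteen to the `i`. -/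
def pw (i : ℕ) : ℤ := ((2 ^ (4 * i) : ℕ) : ℤ)

theorem pw_succ (i : ℕ) : pw (i + 1) = 16 * pw i := by
  simp only [pw, mul_add, pow_add]
  push_cast
  ring

/-- Packing of a list. -/
def packL : List ℤ → ℤ
  | [] => 0
  | a :: l => a + 16 * packL l

theorem packL_ofFn : ∀ {n : ℕ} (f : Fin n → ℤ), packL (List.ofFn f) = ∑ i : Fin n, f i * pw i.val
  | 0, f => by simp [packL]
  | n + 1, f => by
    rw [List.ofFn_succ, packL, packL_ofFn, Fin.sum_univ_succ, Finset.mul_sum]
    simp only [Fin.val_zero, Fin.val_succ, pw_succ]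
    rw [show f 0 * pw 0 = f 0 by simp [pw]]
    congr 1
    exact Finset.sum_congr rfl fun i _ => by ring

/-- The shift of `n` digits. -/
def shift : ℕ → ℤ
  | 0 => 0
  | n + 1 => 8 + 16 * shift n

/-- The shift of 24 digits. -/
def off : ℤ := 42255020007607646716556773512

theorem off_eq : off = shift 24 := by decide +kernel

/-- Digit `i` of a key, centred. -/
def digit (k i : ℕ) : ℤ := ((((k >>> (4 * i)) &&& 15) : ℕ) : ℤ) - 8

/-- Digits of a key. -/
def digits : ℕ → ℕ → List ℤ
  | 0, _ => []
  | n + 1, k => (((k &&& 15 : ℕ) : ℤ) - 8) :: digits n (k >>> 4)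

theorem digits_eq_ofFn : ∀ (n k : ℕ), digits n k = List.ofFn fun i : Fin n => digit k i.val
  | 0, k => by simp [digits]
  | n + 1, k => by
    rw [digits, List.ofFn_succ, digits_eq_ofFn]
    refine congrArg₂ _ (by simp [digit]) (congrArg List.ofFn (funext fun i => ?_))
    simp only [digit, Fin.val_succ, ← Nat.shiftRight_add]
    ring_nf

/-- The key of a list. -/
def keyL (l : List ℤ) : ℕ := (packL l + shift l.length).toNat

theorem packL_shift_nonneg : ∀ l : List ℤ, (∀ a ∈ l, -8 ≤ a ∧ a ≤ 7) → 0 ≤ packL l + shift l.length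
  | [], _ => by simp [packL, shift]
  | a :: l, h => by
    have h1 := packL_shift_nonneg l fun b hb => h b (List.mem_cons_of_mem _ hb)
    have h2 := h a (by simp)
    simp only [packL, List.length_cons, shift]
    omega

theorem digits_keyL : ∀ l : List ℤ, (∀ a ∈ l, -8 ≤ a ∧ a ≤ 7) → digits l.length (keyL l) = l
  | [], _ => rfl
  | a :: l, h => by
    have hl : ∀ b ∈ l, -8 ≤ b ∧ b ≤ 7 := fun b hb => h b (List.mem_cons_of_mem _ hb)
    have h1 := packL_shift_nonneg l hl
    have h2 := h a (by simp)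
    have e1 : keyL (a :: l) >>> 4 = keyL l := by
      simp only [keyL, packL, List.length_cons, shift, Nat.shiftRight_eq_div_pow]
      omega
    have e2 : ((keyL (a :: l) &&& 15 : ℕ) : ℤ) - 8 = a := by
      rw [show (15 : ℕ) = 2 ^ 4 - 1 by norm_num, Nat.and_two_pow_sub_one_eq_mod]
      simp only [keyL, packL, List.length_cons, shift]
      omega
    rw [List.length_cons, digits, e1, e2, digits_keyL l hl]

/-- The vector of a key. -/
def vecK (k : ℕ) : GolayPt → ℤ := fun p => digit k (idx p).val

theorem toL_vecK (k : ℕ) : toL (vecK k) = digits 24 k := by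
  rw [digits_eq_ofFn, toL]
  simp only [vecK, idx_pt]

/-- The packed value of a vector. -/
def pack (x : GolayPt → ℤ) : ℤ := packL (toL x)

theorem pack_eq_sum (x : GolayPt → ℤ) : pack x = ∑ p, x p * pw (idx p).val := by
  rw [pack, toL, packL_ofFn, ← sum_pt fun p => x p * pw (idx p).val]
  simp only [idx_pt]

theorem vecK_of_pack {x : GolayPt → ℤ} (hb : ∀ p, -8 ≤ x p ∧ x p ≤ 7) {k : ℕ}
    (h : pack x + off = k) : vecK k = x := by
  apply toL_injective
  have hl : ∀ a ∈ toL x, -8 ≤ a ∧ a ≤ 7 := fun a ha => by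
    rw [toL, List.mem_ofFn] at ha
    obtain ⟨i, rfl⟩ := ha
    exact hb _
  have hk : keyL (toL x) = k := by
    rw [keyL, length_toL, ← off_eq]
    show (pack x + off).toNat = k
    rw [h, Int.toNat_natCast]
  rw [toL_vecK, ← hk]
  conv_lhs => rw [← length_toL x]
  exact digits_keyL _ hl

theorem bound_of_norm {x : GolayPt → ℤ} {N : ℤ} (hn : sqNorm x = N) (hN : N ≤ 48) (p : GolayPt) :
    -8 ≤ x p ∧ x p ≤ 7 := by
  have h := int_sq_le_sqNorm x p
  constructor <;> nlinarith

end CfsgLib.Golay.LeechOrbit
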